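import Groth.Agent.Lib.FieldBr3.MaxRefine
import Groth.Agent.Lib.EtPic3.CurveGmApply
import Groth.Agent.Lib.RedSep.Basic

/-!
# Cohomology of torsion sheaves in dimension one
-/

set_option autoImplicit false
set_option linter.style.haveILetI false
set_option backward.isDefEq.respectTransparency false
set_option backward.isDefEq.respectTransparency.types false
set_option maxHeartbeats 1000000

universe u

open CategoryTheory CategoryTheory.Limits AlgebraicGeometry Opposite CategoryTheory.Abelian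
open Groth.Agent.EtStalk Groth.Agent.EtPic3

namespace Groth.Agent.FieldBr3

/-- A sheaf with torsion stalks is torsion. -/
theorem isTorsion_of_stalk {X : Scheme.{u}} (F : EtCoh.Ab X)
    (h : ∀ (Ω : Type u) [Field Ω] [IsSepClosed Ω] (ξ : Spec (CommRingCat.of Ω) ⟶ X)
      (p : (EtCoh.stalk ξ).obj F), IsOfFinAddOrder p) : EtCoh.IsTorsion F := by
  intro U s x
  obtain ⟨φ, hφ⟩ := EtStalk.exists_fib U x
  obtain ⟨N, hN, hN0⟩ := isOfFinAddOrder_iff_nsmul_eq_zero.1 (h _ _ (germ _ F φ s))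
  obtain ⟨V, g, hx, he⟩ := (mem_agree_iff_germ F φ (N • s) 0).2 (by rw [map_nsmul, map_zero]; exact hN0)
  refine ⟨V, g, ?_, isOfFinAddOrder_iff_nsmul_eq_zero.2 ⟨N, hN, ?_⟩⟩
  · obtain ⟨v, hv⟩ := hx
    exact ⟨v, hv.trans hφ⟩
  · rw [map_nsmul, map_zero] at he
    exact he

/-- The stalks of a torsion sheaf are torsion. -/
theorem isOfFinAddOrder_stalk {X : Scheme.{u}} (F : EtCoh.Ab X) (hF : EtCoh.IsTorsion F)
    {Ω : Type u} [Field Ω] [IsSepClosed Ω] (ξ : Spec (CommRingCat.of Ω) ⟶ X) (p : (EtCoh.stalk ξ).obj F) :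
    IsOfFinAddOrder p := by
  obtain ⟨U, φ, s, rfl⟩ := germ_surjective _ _ p
  obtain ⟨V, g, ⟨v, hv⟩, hfin⟩ := hF U s (fibPt φ)
  obtain ⟨N, hN, h0⟩ := isOfFinAddOrder_iff_nsmul_eq_zero.1 hfin
  refine isOfFinAddOrder_iff_nsmul_eq_zero.2 ⟨N, hN, ?_⟩
  have h := (mem_agree_iff_germ F φ (N • s) 0).1 ⟨V, g, ⟨v, hv⟩, by rw [map_nsmul, map_zero]; exact h0⟩
  rwa [map_nsmul, map_zero] at h

/-- Inverse images of torsion sheaves are torsion. -/
theorem isTorsion_pull' {X Y : Scheme.{u}} (f : X ⟶ Y) {F : EtCoh.Ab Y} (hF : EtCoh.IsTorsion F) :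
    EtCoh.IsTorsion ((EtCoh.pull f).obj F) :=
  isTorsion_of_stalk _ fun Ω _ _ ξ p => by
    obtain ⟨q, rfl⟩ := ((ConcreteCategory.isIso_iff_bijective (stalkPull f ξ F)).1 inferInstance).2 p
    exact AddMonoidHom.isOfFinAddOrder _ (isOfFinAddOrder_stalk F hF _ q)

/-- Direct images of torsion sheaves along quasi-compact quasi-separated morphisms are torsion. -/
theorem isTorsion_push' {X Y : Scheme.{u}} (f : X ⟶ Y) [QuasiCompact f] [QuasiSeparated f] {F : EtCoh.Ab X}
    (hF : EtCoh.IsTorsion F) : EtCoh.IsTorsion ((EtCoh.push f).obj F) := by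
  haveI : (EtCoh.push f).IsRightAdjoint := (EtCoh.pullPushAdj f).isRightAdjoint
  exact EtColim.isTorsion_of_iso ((EtCoh.push f).rightDerivedZeroIsoSelf.app F) (EtColim.isTorsion_Rpush f hF 0)

variable {X : Scheme.{u}}

/-- A geometric point over a maximal point lifts to the local ring. -/
theorem exists_lift_maxPt (η : X) {Ω : Type u} [Field Ω] [IsSepClosed Ω] (ξ : Spec (CommRingCat.of Ω) ⟶ X)
    (hξ : ξ (default : Spec (CommRingCat.of Ω)) = η) :
    ∃ ζ : Spec (CommRingCat.of Ω) ⟶ Spec (X.presheaf.stalk η), ζ ≫ X.fromSpecStalk η = ξ := by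
  have h : η = ξ (IsLocalRing.closedPoint Ω) := hξ.symm.trans (congrArg ξ (Subsingleton.elim _ _))
  refine ⟨Spec.map ((X.residueFieldCongr h).hom ≫ Scheme.descResidueField (Scheme.stalkClosedPointTo ξ)) ≫
    Spec.map (X.residue η), ?_⟩
  rw [Category.assoc, Spec.map_comp, Category.assoc]
  show Spec.map _ ≫ Spec.map _ ≫ X.fromSpecResidueField η = ξ
  rw [Scheme.residueFieldCongr_fromSpecResidueField]
  exact Scheme.descResidueField_stalkClosedPointTo_fromSpecResidueField Ω X ξ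

/-- The local ring of a reduced scheme at a maximal point is a field. -/
theorem isField_stalk [IsReduced X] {η : X} (hη : IsMaxPt X η) : IsField (X.presheaf.stalk η) := by
  have hsub := subsingleton_spec_stalk hη
  refine IsLocalRing.isField_iff_maximalIdeal_eq.2 (eq_bot_iff.2 fun a ha => ?_)
  haveI : Subsingleton (PrimeSpectrum (X.presheaf.stalk η)) := hsub
  refine (Submodule.mem_bot _).2 (IsNilpotent.eq_zero (nilpotent_iff_mem_prime.2 fun J hJ => ?_))
  rwa [show J = IsLocalRing.maximalIdeal (X.presheaf.stalk η) from congrArg PrimeSpectrum.asIdeal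
    (Subsingleton.elim (⟨J, hJ⟩ : PrimeSpectrum (X.presheaf.stalk η)) (IsLocalRing.closedPoint _))]

variable [IsNoetherian X] [IsReduced X] (hdim : topologicalKrullDim X ≤ 1) {P : Submonoid ℕ} (hP : PointsKilled P X)

include hdim hP in
/-- The kernel of the edge map from a maximal point in degree at least three. -/
theorem killed_ker_ge_two (η : X) (hη : IsMaxPt X η) (n : ℕ) (hn : 2 ≤ n)
    (F : EtCoh.Ab (Spec (X.presheaf.stalk η)))
    (hF : ∀ q : ℕ, 2 ≤ q → q ≤ n → ∀ W : (Spec (X.presheaf.stalk η)).Etale, CompactSpace W.left →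
      ∀ z : EtCoh.H W.left ((EtCoh.pull W.hom).obj F) q, Killed P z)
    (x : EtCoh.H X ((EtCoh.push (X.fromSpecStalk η)).obj F) (n + 1))
    (hx : EtLim.HofPush (X.fromSpecStalk η) F (n + 1) x = 0) : Killed P x := by
  obtain ⟨m, rfl⟩ := Nat.exists_eq_add_one.2 (show 0 < n by omega)
  let f := X.fromSpecStalk η
  let S := ShortComplex.mk (Injective.ι F) (cokernel.π (Injective.ι F)) (cokernel.condition _)
  have hS : S.ShortExact := { exact := ShortComplex.exact_cokernel (Injective.ι F) }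
  haveI : Injective S.X₂ := inferInstanceAs (Injective (Injective.under F))
  haveI : (EtCoh.push f).IsRightAdjoint := (EtCoh.pullPushAdj f).isRightAdjoint
  haveI := hS.mono_f
  let a := (EtCoh.push f).map S.f
  haveI : Mono a := inferInstance
  let T := ShortComplex.mk a (cokernel.π a) (cokernel.condition _)
  have hT : T.ShortExact := { exact := ShortComplex.exact_cokernel a }
  haveI : Injective T.X₂ := EtStalk.injective_push f S.X₂
  haveI : PreservesLimitsOfSize.{0, 0} (EtCoh.push f) := (EtCoh.pullPushAdj f).rightAdjoint_preservesLimits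
  haveI : PreservesFiniteLimits (EtCoh.push f) := PreservesLimitsOfSize.preservesFiniteLimits _
  have hw : a ≫ (EtCoh.push f).map S.g = 0 := by rw [← Functor.map_comp, S.zero, Functor.map_zero]
  let κ : T.X₃ ⟶ (EtCoh.push f).obj S.X₃ := cokernel.desc a ((EtCoh.push f).map S.g) hw
  haveI : Mono κ := (hS.exact.map_of_mono_of_preservesKernel (EtCoh.push f) hS.mono_f inferInstance).mono_cokernelDesc
  let Q := ShortComplex.mk κ (cokernel.π κ) (cokernel.condition _)
  have hQ : Q.ShortExact := { exact := ShortComplex.exact_cokernel κ }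
  have hκ : T.g ≫ κ = (EtCoh.push f).map S.g := cokernel.π_desc _ _ _
  have hz : (EtCoh.push f).map S.g ≫ Q.g = 0 := by
    rw [← hκ, Category.assoc]
    exact (congrArg (_ ≫ ·) (cokernel.condition κ)).trans comp_zero
  have hD : SuppClosed Q.X₃ := fun Ω _ _ ξ hξ => by
    haveI hep : Epi ((EtCoh.stalk ξ).map Q.g) := by
      haveI : Epi Q.g := inferInstanceAs (Epi (cokernel.π κ))
      infer_instance
    refine subsingleton_of_forall_eq 0 fun p => ?_
    obtain ⟨b, rfl⟩ := (AddCommGrpCat.epi_iff_surjective _).1 hep p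
    have hmax := isMaxPt_of_dim_le_one hdim hξ
    by_cases hηξ : ξ (default : Spec (CommRingCat.of Ω)) = η
    · obtain ⟨ζ, rfl⟩ := exists_lift_maxPt η ξ hηξ
      have hsurj : Function.Surjective ((EtCoh.stalk (ζ ≫ f)).map ((EtCoh.push f).map S.g)) := fun c => by
        haveI : Epi S.g := hS.epi_g
        obtain ⟨d, hd⟩ := (EtStalk.epi_iff_stalk S.g).1 inferInstance Ω ζ (pushStalk f ζ S.X₃ c)
        obtain ⟨e, rfl⟩ := (bijective_pushStalk_maxPt η hη ζ S.X₂).2 d
        refine ⟨e, (bijective_pushStalk_maxPt η hη ζ S.X₃).1 (Eq.trans ?_ hd)⟩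
        exact ConcreteCategory.congr_hom (pushStalk_nat f ζ S.g) e
      obtain ⟨e, rfl⟩ := hsurj b
      rw [← ConcreteCategory.comp_apply, ← Functor.map_comp, hz, Functor.map_zero]
      rfl
    · haveI := subsingleton_stalk_push η hη S.X₃ ξ fun h => hηξ (hmax η h).symm
      rw [show b = 0 from Subsingleton.elim (α := ((EtCoh.stalk ξ).obj Q.X₂ : Type (u + 1))) _ _, map_zero]
  obtain ⟨c, rfl⟩ := Ext.covariant_sequence_exact₁ _ hT x (Ext.eq_zero_of_injective _) (n₀ := m + 1) rfl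
  refine Killed.map (hT.extClass.postcomp _ rfl) (x := c) ?_
  have h1 := (HofPush_connect' f hS T.g κ hκ (cokernel.condition _) hT (m + 1) c).symm.trans hx
  obtain ⟨z, hz'⟩ := Ext.covariant_sequence_exact₃ _ hS _ rfl h1
  rw [Ext.eq_zero_of_injective z, Ext.zero_comp] at hz'
  obtain ⟨N, hN, hNc⟩ := killed_ker_HofPush f (compactSpace_bc_stalk η) P m S.X₃ (fun q hq hqm W hW =>
    haveI : Etale W.hom := W.prop
    killed_H_pull_quotient P W.hom hS (hF (q + 1) (by omega) (by omega) W hW) hq) _ hz'.symm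
  refine killed_of_nsmul hN ?_
  have h0 : (N • c).comp (Ext.mk₀ Q.f) (add_zero _) = 0 :=
    (map_nsmul ((Ext.mk₀ Q.f).postcomp _ (add_zero (m + 1))) N c).trans hNc
  obtain ⟨d, hd⟩ := Ext.covariant_sequence_exact₁ _ hQ (N • c) h0 (n₀ := m) rfl
  rw [← hd]
  exact Killed.map (hQ.extClass.postcomp _ rfl) (killed_H_suppClosed hP Q.X₃ hD (by omega) d)

omit [AlgebraicGeometry.IsNoetherian X] in
theorem bijective_stalk_unit [QuasiSeparatedSpace X] (η : X) (hη : IsMaxPt X η) (F : EtCoh.Ab X)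
    {Ω : Type u} [Field Ω] [IsSepClosed Ω] (ξ : Spec (CommRingCat.of Ω) ⟶ X) (hξ : ξ default = η) :
    Function.Bijective ((EtCoh.stalk ξ).map ((EtCoh.pullPushAdj (X.fromSpecStalk η)).unit.app F)) := by
  obtain ⟨ζ, rfl⟩ := exists_lift_maxPt η ξ hξ
  haveI : IsIso (pushStalk (X.fromSpecStalk η) ζ ((EtCoh.pull (X.fromSpecStalk η)).obj F)) :=
    (ConcreteCategory.isIso_iff_bijective _).2 (bijective_pushStalk_maxPt η hη ζ _)
  rw [← ConcreteCategory.isIso_iff_bijective, show (EtCoh.stalk (ζ ≫ _)).map _ =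
    stalkPull (X.fromSpecStalk η) ζ F ≫ inv (pushStalk (X.fromSpecStalk η) ζ _) by
      rw [IsIso.eq_comp_inv, unit_pushStalk]]
  infer_instance

variable (F : EtCoh.Ab X)

/-- The restrictions to the maximal points. -/
noncomputable abbrev genSheaf : EtCoh.Ab X :=
  ⨁ fun i : Fin (Fintype.card (MaxPts X)) =>
    (EtCoh.push (X.fromSpecStalk (maxPt X i).1)).obj ((EtCoh.pull (X.fromSpecStalk (maxPt X i).1)).obj F)

/-- Restriction to the maximal points. -/
noncomputable def toGenSheaf : F ⟶ genSheaf F :=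
  biproduct.lift fun i => (EtCoh.pullPushAdj (X.fromSpecStalk (maxPt X i).1)).unit.app F

theorem bijective_stalk_toGenSheaf {Ω : Type u} [Field Ω] [IsSepClosed Ω] (ξ : Spec (CommRingCat.of Ω) ⟶ X)
    (hξ : IsMaxPt X (ξ default)) : Function.Bijective ((EtCoh.stalk ξ).map (toGenSheaf F)) := by
  classical
  haveI : PreservesBinaryBiproducts (EtCoh.stalk ξ) := preservesBinaryBiproducts_of_preservesBinaryProducts _
  haveI : (EtCoh.stalk ξ).Additive := Functor.additive_of_preservesBinaryBiproducts _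
  let Fs := fun i : Fin (Fintype.card (MaxPts X)) =>
    (EtCoh.push (X.fromSpecStalk (maxPt X i).1)).obj ((EtCoh.pull (X.fromSpecStalk (maxPt X i).1)).obj F)
  let η₀ : MaxPts X := ⟨ξ default, hξ⟩
  let i₀ := Fintype.equivFin (MaxPts X) η₀
  have hi₀ : maxPt X i₀ = η₀ := Equiv.symm_apply_apply _ _
  have hπ : ∀ η p, (EtCoh.stalk ξ).map (biproduct.π Fs η) ((EtCoh.stalk ξ).map (toGenSheaf F) p) =
      (EtCoh.stalk ξ).map ((EtCoh.pullPushAdj (X.fromSpecStalk (maxPt X η).1)).unit.app F) p := fun η p => by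
    rw [← ConcreteCategory.comp_apply, ← Functor.map_comp, toGenSheaf, biproduct.lift_π]
    rfl
  have hbij := bijective_stalk_unit (maxPt X i₀).1 (maxPt X i₀).2 F ξ (by rw [hi₀])
  have hext : ∀ d : (EtCoh.stalk ξ).obj (⨁ Fs), (∀ η, (EtCoh.stalk ξ).map (biproduct.π Fs η) d = 0) → d = 0 := by
    intro d hd
    have h := ConcreteCategory.congr_hom (congrArg (EtCoh.stalk ξ).map (biproduct.total : ∑ η, biproduct.π Fs η ≫ biproduct.ι Fs η = 𝟙 (⨁ Fs))) d
    rw [Functor.map_sum, CategoryTheory.Functor.map_id] at h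
    refine h.symm.trans ?_
    show AddCommGrpCat.homAddEquiv (∑ η, (EtCoh.stalk ξ).map (biproduct.π Fs η ≫ biproduct.ι Fs η)) d = 0
    rw [map_sum, AddMonoidHom.finset_sum_apply]
    refine Finset.sum_eq_zero fun η _ => ?_
    show (EtCoh.stalk ξ).map (biproduct.π Fs η ≫ biproduct.ι Fs η) d = 0
    rw [Functor.map_comp, ConcreteCategory.comp_apply, hd, map_zero]
  have hsub : ∀ η, η ≠ i₀ → Subsingleton ((EtCoh.stalk ξ).obj (Fs η)) := fun η hne =>
    subsingleton_stalk_push (maxPt X η).1 (maxPt X η).2 _ ξ fun h => hne <| by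
      have h1 : maxPt X η = η₀ := Subtype.ext (η₀.2 _ h)
      rw [← hi₀] at h1
      exact (Fintype.equivFin (MaxPts X)).symm.injective h1
  constructor
  · intro p q hpq
    exact hbij.1 (by rw [← hπ i₀, ← hπ i₀, hpq])
  · intro b
    obtain ⟨p, hp⟩ := hbij.2 ((EtCoh.stalk ξ).map (biproduct.π Fs i₀) b)
    refine ⟨p, sub_eq_zero.1 (hext _ fun η => ?_)⟩
    by_cases hη : η = i₀
    · subst hη; rw [map_sub, hπ, hp, sub_self]
    · exact @Subsingleton.elim _ (hsub η hη) _ _

include hdim hP in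
/-- The contribution of a maximal point. -/
theorem killed_H_push_pull (hS : ∀ η : X, IsMaxPt X η → ∀ G : EtCoh.Ab (Spec (X.presheaf.stalk η)), EtCoh.IsTorsion G →
      ∀ q : ℕ, 2 ≤ q → Subsingleton (EtCoh.H (Spec (X.presheaf.stalk η)) G q))
    (hF : EtCoh.IsTorsion F) (η : X) (hη : IsMaxPt X η) (n : ℕ) (hn : 2 ≤ n)
    (y : EtCoh.H X ((EtCoh.push (X.fromSpecStalk η)).obj ((EtCoh.pull (X.fromSpecStalk η)).obj F)) (n + 1)) :
    Killed P y := by
  haveI := subsingleton_spec_stalk hη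
  let g := X.fromSpecStalk η
  have hG : EtCoh.IsTorsion ((EtCoh.pull g).obj F) := isTorsion_pull' g hF
  haveI := hS η hη _ hG (n + 1) (by omega)
  refine killed_ker_ge_two hdim hP η hη n hn _ (fun q hq hqn W hW z => ?_) y (Subsingleton.elim _ _)
  letI := (isField_stalk hη).toField
  haveI : Etale W.hom := W.prop
  haveI : CompactSpace ((𝟭 Scheme).obj W.left) := inferInstanceAs (CompactSpace W.left)
  haveI : IsIntegralHom W.hom := isIntegralHom_of_etale_field (κ := (X.presheaf.stalk η : Type u)) W.hom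
  obtain ⟨w, rfl⟩ := (FieldH25.bijective_HofPush_integral W.hom ((EtCoh.pull W.hom).obj ((EtCoh.pull g).obj F)) q).2 z
  rw [show w = 0 from @Subsingleton.elim _ (hS η hη _ (isTorsion_push' W.hom (isTorsion_pull' W.hom hG)) q hq) _ _,
    map_zero]
  exact killed_zero

include hdim hP in
/-- Torsion sheaves have killed cohomology in degrees at least three. -/
theorem killed_H_torsion (hS : ∀ η : X, IsMaxPt X η → ∀ G : EtCoh.Ab (Spec (X.presheaf.stalk η)), EtCoh.IsTorsion G →
      ∀ q : ℕ, 2 ≤ q → Subsingleton (EtCoh.H (Spec (X.presheaf.stalk η)) G q))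
    (hF : EtCoh.IsTorsion F) (n : ℕ) (hn : 2 ≤ n) (ξ : EtCoh.H X F (n + 1)) : Killed P ξ := by
  classical
  let φ := toGenSheaf F
  let S := ShortComplex.mk (kernel.ι φ) (cokernel.π (kernel.ι φ)) (cokernel.condition _)
  have hSe : S.ShortExact := { exact := ShortComplex.exact_cokernel (kernel.ι φ) }
  let m := Abelian.factorThruCoimage φ
  have hm : cokernel.π (kernel.ι φ) ≫ m = φ := Abelian.coimage.fac φ
  let T := ShortComplex.mk m (cokernel.π m) (cokernel.condition _)
  have hT : T.ShortExact := { exact := ShortComplex.exact_cokernel m }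
  have hbij : ∀ (Ω : Type u) [Field Ω] [IsSepClosed Ω] (x : Spec (CommRingCat.of Ω) ⟶ X),
      ¬ IsClosed ({x default} : Set X) → Function.Bijective ((EtCoh.stalk x).map φ) :=
    fun Ω _ _ x hx => bijective_stalk_toGenSheaf F x (isMaxPt_of_dim_le_one hdim hx)
  have hK : SuppClosed S.X₁ := fun Ω _ _ x hx => by
    haveI hmo : Mono ((EtCoh.stalk x).map (kernel.ι φ)) := inferInstance
    refine subsingleton_of_forall_eq 0 fun p => (AddCommGrpCat.mono_iff_injective _).1 hmo ?_
    refine (hbij Ω x hx).1 ?_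
    rw [map_zero, map_zero, ← ConcreteCategory.comp_apply, ← Functor.map_comp, kernel.condition, Functor.map_zero]
    rfl
  have hC : SuppClosed T.X₃ := fun Ω _ _ x hx => by
    haveI hep : Epi ((EtCoh.stalk x).map (cokernel.π m)) := inferInstance
    refine subsingleton_of_forall_eq 0 fun p => ?_
    obtain ⟨b, rfl⟩ := (AddCommGrpCat.epi_iff_surjective _).1 hep p
    obtain ⟨a, rfl⟩ := (hbij Ω x hx).2 b
    rw [← ConcreteCategory.comp_apply, ← Functor.map_comp,
      show φ ≫ cokernel.π m = 0 from (congrArg (· ≫ cokernel.π m) hm.symm).trans (by rw [Category.assoc, cokernel.condition, comp_zero]), Functor.map_zero]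
    rfl
  let Fs := fun i : Fin (Fintype.card (MaxPts X)) =>
    (EtCoh.push (X.fromSpecStalk (maxPt X i).1)).obj ((EtCoh.pull (X.fromSpecStalk (maxPt X i).1)).obj F)
  have hloc : ∀ i, ∀ y : EtCoh.H X (Fs i) (n + 1), Killed P y := fun i y =>
    killed_H_push_pull hdim hP F hS hF (maxPt X i).1 (maxPt X i).2 n hn y
  have hz : Killed P (ξ.comp (Ext.mk₀ φ) (add_zero (n + 1))) := by
    have h : ξ.comp (Ext.mk₀ φ) (add_zero (n + 1)) = ∑ η : Fin (Fintype.card (MaxPts X)),
        (ξ.comp (Ext.mk₀ ((EtCoh.pullPushAdj (X.fromSpecStalk (maxPt X η).1)).unit.app F)) (add_zero (n + 1))).comp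
          (Ext.mk₀ (biproduct.ι Fs η)) (add_zero (n + 1)) := by
      have key : φ = ∑ η : Fin (Fintype.card (MaxPts X)),
          (EtCoh.pullPushAdj (X.fromSpecStalk (maxPt X η).1)).unit.app F ≫ biproduct.ι Fs η := biproduct.lift_eq
      have hlin := map_sum (Ext.addEquiv₀ (X := F) (Y := ⨁ Fs)).symm
        (fun η => (EtCoh.pullPushAdj (X.fromSpecStalk (maxPt X η).1)).unit.app F ≫ biproduct.ι Fs η) Finset.univ
      rw [key, show Ext.mk₀ (∑ η : Fin (Fintype.card (MaxPts X)), (EtCoh.pullPushAdj (X.fromSpecStalk (maxPt X η).1)).unit.app F ≫ biproduct.ι Fs η) =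
        ∑ η : Fin (Fintype.card (MaxPts X)), Ext.mk₀ ((EtCoh.pullPushAdj (X.fromSpecStalk (maxPt X η).1)).unit.app F ≫ biproduct.ι Fs η) from hlin, Ext.comp_sum]
      refine Finset.sum_congr rfl fun η _ => ?_
      rw [Ext.comp_assoc_of_third_deg_zero, Ext.mk₀_comp_mk₀]
    rw [h]
    exact killed_sum _ _ fun η _ => Killed.map ((Ext.mk₀ (biproduct.ι Fs η)).postcomp _ (add_zero (n + 1))) (hloc η _)
  obtain ⟨N, hN, hN0⟩ := hz
  have h1 : (N • ξ.comp (Ext.mk₀ S.g) (add_zero (n + 1))).comp (Ext.mk₀ T.f) (add_zero (n + 1)) = 0 := by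
    refine (map_nsmul ((Ext.mk₀ T.f).postcomp _ (add_zero (n + 1))) N _).trans ?_
    show N • (ξ.comp (Ext.mk₀ S.g) (add_zero (n + 1))).comp (Ext.mk₀ T.f) (add_zero (n + 1)) = 0
    rw [Ext.comp_assoc_of_third_deg_zero, Ext.mk₀_comp_mk₀, show S.g ≫ T.f = φ from hm]
    exact hN0
  obtain ⟨c, hc⟩ := Ext.covariant_sequence_exact₁ _ hT _ h1 (n₀ := n) rfl
  obtain ⟨M, hM, hM0⟩ := Killed.map (hT.extClass.postcomp _ rfl) (killed_H_suppClosed hP T.X₃ hC (by omega) c)
  refine killed_of_nsmul hN (killed_of_nsmul hM ?_)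
  have h2 : (M • (N • ξ)).comp (Ext.mk₀ S.g) (add_zero (n + 1)) = 0 := by
    refine (map_nsmul ((Ext.mk₀ S.g).postcomp _ (add_zero (n + 1))) M _).trans ?_
    rw [show ((Ext.mk₀ S.g).postcomp _ (add_zero (n + 1))) (N • ξ) = c.comp hT.extClass rfl from
      (map_nsmul ((Ext.mk₀ S.g).postcomp _ (add_zero (n + 1))) N ξ).trans hc.symm]
    exact hM0
  obtain ⟨y, hy⟩ := Ext.covariant_sequence_exact₂ _ hSe _ h2
  rw [← hy]
  exact Killed.map ((Ext.mk₀ S.f).postcomp _ (add_zero (n + 1))) (killed_H_suppClosed hP S.X₁ hK (by omega) y)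

end Groth.Agent.FieldBr3
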