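import Groth.Agent.Lib.FieldBr3.Curve
import Groth.Agent.Lib.FieldBr3.CurveTor

/-!
# Cohomological dimension of curves over algebraically closed fields
-/

set_option autoImplicit false
set_option linter.style.haveILetI false
set_option backward.isDefEq.respectTransparency false
set_option backward.isDefEq.respectTransparency.types false
set_option maxHeartbeats 1000000

universe u

open CategoryTheory CategoryTheory.Limits AlgebraicGeometry Opposite CategoryTheory.Abelian

namespace Groth.Agent.FieldBr3

open Groth.Agent Groth.Agent.EtPic3

variable {k : Type u} [Field k] [IsAlgClosed k] {X : Scheme.{u}} (f : X ⟶ Spec (CommRingCat.of k))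
  [LocallyOfFiniteType f]

include f in
/-- Closed points have separably closed residue fields. -/
theorem isSepClosed_residueField {x : X} (hx : IsClosed ({x} : Set X)) : IsSepClosed (X.residueField x) := by
  letI := VarDim.resAlg f x
  have h : Algebra.trdeg k (X.residueField x) = 0 := by
    rw [VarDim.trdeg_residueField f x, (VarDim.sdim_eq_zero_iff_isClosed f x).2 hx, Nat.cast_zero]
  haveI : Algebra.IsAlgebraic k (X.residueField x) := trdeg_eq_zero_iff.1 h
  haveI : IsSepClosed k := inferInstance
  exact isSepClosed_of_ringEquiv
    (RingEquiv.ofBijective (algebraMap k (X.residueField x)) IsAlgClosed.algebraMap_bijective_of_isIntegral)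

variable (hdim : topologicalKrullDim X ≤ 1)

include f hdim in
/-- Over a maximal point of a reduced curve torsion sheaves have no cohomology above degree one. -/
theorem subsingleton_H_torsion_stalk [IsReduced X] {η : X} (hη : IsMaxPt X η)
    (G : EtCoh.Ab (Spec (X.presheaf.stalk η))) (hG : EtCoh.IsTorsion G) {q : ℕ} (hq : 2 ≤ q) :
    Subsingleton (EtCoh.H (Spec (X.presheaf.stalk η)) G q) := by
  let R := X.presheaf.stalk η
  letI := (isField_stalk hη).toField
  have hbij : Function.Bijective (IsLocalRing.residue R) :=
    ⟨RingHom.injective _, IsLocalRing.residue_surjective⟩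
  let e : (X.residueField η : Type u) →+* R := (RingEquiv.ofBijective _ hbij).symm.toRingHom
  letI : Algebra (X.residueField η : Type u) R := e.toAlgebra
  haveI : FiniteDimensional (X.residueField η : Type u) R :=
    Module.Finite.of_surjective (Algebra.linearMap (X.residueField η : Type u) R) (RingEquiv.ofBijective _ hbij).symm.surjective
  have hC : Curves.IsCr (R : Type u) 1 := S0213.result _ _ (isCr_one_residueField f hdim η)
  exact subsingleton_H_torsion (R : Type u) (normSurj_of_brauer _ (brauer_trivial_of_isCr_one _ hC)) G hG hq

include f hdim in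
/-- Torsion sheaves on a reduced curve have no cohomology in degrees at least three. -/
theorem subsingleton_H_of_reduced [QuasiCompact f] [IsReduced X] (F : EtCoh.Ab X) (hF : EtCoh.IsTorsion F)
    {q : ℕ} (hq : 3 ≤ q) : Subsingleton (EtCoh.H X F q) := by
  haveI : IsLocallyNoetherian X := LocallyOfFiniteType.isLocallyNoetherian f
  haveI : CompactSpace X := QuasiCompact.compactSpace_of_compactSpace f
  haveI : IsNoetherian X := ⟨⟩
  obtain ⟨n, rfl⟩ := Nat.exists_eq_add_one.2 (show 0 < q by omega)
  refine subsingleton_of_forall_eq 0 fun ξ => ?_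
  obtain ⟨N, hN, h⟩ := killed_H_torsion (P := ⊥) hdim (pointsKilled_of_sepClosed ⊥ fun x hx => isSepClosed_residueField f hx) F
    (fun η hη G hG q hq => subsingleton_H_torsion_stalk f hdim hη G hG hq) hF n (by omega) ξ
  rwa [Submonoid.mem_bot.1 hN, one_nsmul] at h

include f hdim in
/-- Torsion sheaves on a curve have no cohomology in degrees at least three. -/
theorem subsingleton_H_curve [QuasiCompact f] (F : EtCoh.Ab X) (hF : EtCoh.IsTorsion F) {q : ℕ} (hq : 3 ≤ q) :
    Subsingleton (EtCoh.H X F q) := by
  let i := X.nilradical.subschemeι
  haveI : IsReduced X.nilradical.subscheme := RedSepLib.isReduced_nilradical_subscheme X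
  haveI hsurj : Surjective i := ⟨fun x => by
    show x ∈ Set.range i
    rw [Scheme.IdealSheafData.range_subschemeι, Scheme.support_nilradical]
    trivial⟩
  have hh : IsHomeomorph i :=
    isHomeomorph_iff_isEmbedding_surjective.2 ⟨i.isClosedEmbedding.isEmbedding, i.surjective⟩
  have hd : topologicalKrullDim X.nilradical.subscheme ≤ 1 :=
    (IsHomeomorph.topologicalKrullDim_eq _ hh).trans_le hdim
  haveI : LocallyOfFiniteType (i ≫ f) := inferInstance
  haveI : QuasiCompact (i ≫ f) := inferInstance
  haveI := subsingleton_H_of_reduced (i ≫ f) hd ((EtCoh.pull i).obj F) (isTorsion_pull' i hF) hq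
  obtain ⟨e, he⟩ := exists_injective_of_thickening i F q
  exact he.subsingleton

end Groth.Agent.FieldBr3
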