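import Groth.Agent.Lib.EtPic3.CurveGmApply
import Groth.Agent.Lib.VarDim.Scheme

/-!
# Sheaves supported on closed points of curves over separably closed fields
-/

set_option autoImplicit false
set_option linter.style.haveILetI false
set_option backward.isDefEq.respectTransparency false
set_option backward.isDefEq.respectTransparency.types false
set_option maxHeartbeats 1000000

universe u

open CategoryTheory CategoryTheory.Limits AlgebraicGeometry Opposite CategoryTheory.Abelian
open Groth.Agent.EtStalk Groth.Agent.EtPic3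

namespace Groth.Agent.FieldBr3

variable {k : Type u} [Field k] [IsSepClosed k] {X : Scheme.{u}} (f : X ⟶ Spec (CommRingCat.of k))
  [LocallyOfFiniteType f]

include f in
/-- Closed points have separably closed residue fields. -/
theorem isSepClosed_residueField_of_sepClosed {x : X} (hx : IsClosed ({x} : Set X)) :
    IsSepClosed (X.residueField x) := by
  letI := VarDim.resAlg f x
  have h : Algebra.trdeg k (X.residueField x) = 0 := by
    rw [VarDim.trdeg_residueField f x, (VarDim.sdim_eq_zero_iff_isClosed f x).2 hx, Nat.cast_zero]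
  haveI : Algebra.IsAlgebraic k (X.residueField x) := trdeg_eq_zero_iff.1 h
  exact Algebra.IsAlgebraic.isSepClosed (F := k)

include f in
/-- Sheaves supported at closed points have no higher cohomology. -/
theorem subsingleton_H_suppClosed [QuasiCompact f] (F : EtCoh.Ab X) (hF : SuppClosed F) {q : ℕ} (hq : 0 < q) :
    Subsingleton (EtCoh.H X F q) := by
  haveI : IsLocallyNoetherian X := LocallyOfFiniteType.isLocallyNoetherian f
  haveI : CompactSpace X := QuasiCompact.compactSpace_of_compactSpace f
  haveI : IsNoetherian X := ⟨⟩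
  refine subsingleton_of_forall_eq 0 fun z => ?_
  obtain ⟨N, hN, h⟩ := killed_H_suppClosed
    (pointsKilled_of_sepClosed ⊥ fun x hx => isSepClosed_residueField_of_sepClosed f hx) F hF hq z
  rwa [Submonoid.mem_bot.1 hN, one_nsmul] at h

omit [LocallyOfFiniteType f] in
/-- Stalks at non-closed points of a curve sit over maximal points. -/
theorem suppClosed_of_maxPts (hdim : topologicalKrullDim X ≤ 1) (F : EtCoh.Ab X)
    (hgen : ∀ (Ω : Type u) [Field Ω] [IsSepClosed Ω] (ξ : Spec (CommRingCat.of Ω) ⟶ X),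
      (∀ x ∈ Set.range ξ.base, ∀ y : X, y ⤳ x → y = x) → IsZero ((EtCoh.stalk ξ).obj F)) :
    SuppClosed F := fun Ω _ _ ξ hξ =>
  AddCommGrpCat.subsingleton_of_isZero (hgen Ω ξ (by
    rintro _ ⟨a, rfl⟩ y hy
    rw [Subsingleton.elim a (default : Spec (CommRingCat.of Ω))] at hy ⊢
    exact isMaxPt_of_dim_le_one hdim hξ y hy))

include f in
/-- A map bijective at the non-closed points induces isomorphisms in high degrees. -/
theorem isIso_HF_map [QuasiCompact f] {F G : EtCoh.Ab X} (φ : F ⟶ G) (hK : SuppClosed (kernel φ))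
    (hC : SuppClosed (cokernel φ)) (q : ℕ) (hq : 1 ≤ q) (h : 2 ≤ q ∨ Epi φ) :
    IsIso ((EtCoh.HF X q).map φ) := by
  rw [ConcreteCategory.isIso_iff_bijective]
  let S := ShortComplex.mk (kernel.ι φ) (cokernel.π (kernel.ι φ)) (cokernel.condition _)
  have hSe : S.ShortExact := { exact := ShortComplex.exact_cokernel (kernel.ι φ) }
  let m := Abelian.factorThruCoimage φ
  have hm : cokernel.π (kernel.ι φ) ≫ m = φ := Abelian.coimage.fac φ
  let T := ShortComplex.mk m (cokernel.π m) (cokernel.condition _)
  have hT : T.ShortExact := { exact := ShortComplex.exact_cokernel m }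
  have hK0 : ∀ n, 0 < n → ∀ z : EtCoh.H X S.X₁ n, z = 0 := fun n hn z =>
    @Subsingleton.elim _ (subsingleton_H_suppClosed f S.X₁ hK hn) _ _
  have hC' : SuppClosed T.X₃ := fun Ω _ _ ξ hξ => by
    haveI := hC Ω ξ hξ
    haveI hep : Epi ((EtCoh.stalk ξ).map (cokernel.π m)) := inferInstance
    let e : cokernel φ ⟶ T.X₃ := cokernel.desc φ (cokernel.π m)
      ((congrArg (· ≫ cokernel.π m) hm.symm).trans (by rw [Category.assoc, cokernel.condition, comp_zero]))
    haveI : Epi e := epi_of_epi_fac (cokernel.π_desc φ (cokernel.π m) _)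
    exact Function.Surjective.subsingleton ((EtStalk.epi_iff_stalk e).1 inferInstance Ω ξ)
  have hmap : ∀ z : EtCoh.H X F q, (EtCoh.HF X q).map φ z = (z.comp (Ext.mk₀ S.g) (add_zero q)).comp (Ext.mk₀ T.f) (add_zero q) :=
    fun z => by
      rw [Ext.comp_assoc_of_third_deg_zero, Ext.mk₀_comp_mk₀, show S.g ≫ T.f = φ from hm]
      rfl
  refine ⟨(injective_iff_map_eq_zero ((EtCoh.HF X q).map φ).hom).2 fun z hz => ?_, fun b => ?_⟩
  · have hz' : (z.comp (Ext.mk₀ S.g) (add_zero q)).comp (Ext.mk₀ T.f) (add_zero q) = 0 := (hmap z).symm.trans hz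
    have h1 : z.comp (Ext.mk₀ S.g) (add_zero q) = 0 := by
      rcases h with hq2 | hepi
      · obtain ⟨n, rfl⟩ := Nat.exists_eq_add_one.2 (show 0 < q by omega)
        obtain ⟨c, hc⟩ := Ext.covariant_sequence_exact₁ _ hT _ hz' (n₀ := n) rfl
        rw [← hc, show c = 0 from @Subsingleton.elim _ (subsingleton_H_suppClosed f T.X₃ hC' (q := n) (by omega)) _ _,
          Ext.zero_comp]
      · haveI : Epi (cokernel.π (kernel.ι φ) ≫ m) := hm.symm ▸ hepi
        haveI : Epi m := epi_of_epi (cokernel.π (kernel.ι φ)) m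
        haveI : Mono m := inferInstance
        haveI : IsIso m := isIso_of_mono_of_epi m
        exact FieldH25.eq_zero_of_comp_iso _ (asIso m) hz'
    obtain ⟨y, hy⟩ := Ext.covariant_sequence_exact₂ _ hSe z h1
    rw [← hy, hK0 q (by omega) y, Ext.zero_comp]
  · obtain ⟨y, hy⟩ := Ext.covariant_sequence_exact₂ _ hT b
      (@Subsingleton.elim _ (subsingleton_H_suppClosed f T.X₃ hC' (q := q) (by omega)) _ _)
    obtain ⟨z, hz⟩ := Ext.covariant_sequence_exact₃ _ hSe y (n₁ := q + 1) rfl (hK0 (q + 1) q.succ_pos _)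
    exact ⟨z, (hmap z).trans ((congrArg (fun t => Ext.comp t (Ext.mk₀ T.f) (add_zero q)) hz).trans hy)⟩

end Groth.Agent.FieldBr3
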