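import Groth.Agent.Lib.EtPic3.MaxPoint
import Groth.Agent.Lib.EtaleRes4.Ext
import Groth.Agent.Lib.EtaleFibre12.Basic
import Groth.Agent.Lib.Hens.Reduced
import Groth.Agent.Lib.VarDim.Scheme
import Mathlib.AlgebraicGeometry.Morphisms.FormallyUnramified

/-!
# Stalks of direct images from the maximal points
-/

set_option autoImplicit false
set_option linter.style.haveILetI false
set_option backward.isDefEq.respectTransparency false
set_option backward.isDefEq.respectTransparency.types false
set_option maxHeartbeats 1000000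

universe u

open CategoryTheory CategoryTheory.Limits AlgebraicGeometry Opposite
open Groth.Agent.EtStalk Groth.Agent.EtPic3

namespace Groth.Agent.FieldBr3

/-- A scheme étale over a reduced scheme is reduced. -/
theorem isReduced_of_etale {X Y : Scheme.{u}} (g : Y ⟶ X) [Etale g] [IsReduced X] : IsReduced Y := by
  haveI : ∀ y : Y, _root_.IsReduced (Y.presheaf.stalk y) := fun y => by
    obtain ⟨U, hU, hyU, -⟩ := exists_isAffineOpen_mem_and_subset (X := X) (x := g y) (U := ⊤) trivial
    obtain ⟨V, hV, hyV, hVU⟩ := exists_isAffineOpen_mem_and_subset (X := Y) (x := y) (U := g ⁻¹ᵁ U) hyU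
    have hft := HasRingHomProperty.appLE (P := @Etale) g inferInstance ⟨U, hU⟩ ⟨V, hV⟩ hVU
    algebraize [(g.appLE U V hVU).hom]
    haveI : _root_.IsReduced Γ(Y, V) := Hens.isReduced_of_etale Γ(X, U) Γ(Y, V)
    letI := Y.presheaf.algebra_section_stalk (⟨y, hyV⟩ : V)
    haveI := hV.isLocalization_stalk ⟨y, hyV⟩
    exact @isReduced_localizationPreserves Γ(Y, V) _ (hV.primeIdealOf ⟨y, hyV⟩).asIdeal.primeCompl
      (Y.presheaf.stalk y) _ _ _ inferInstance
  exact isReduced_of_isReduced_stalk Y

/-- A preimmersion of the spectrum of a field in a reduced one point scheme is an isomorphism. -/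
theorem isIso_of_preimmersion {L : Type u} [Field L] {Z : Scheme.{u}} [Subsingleton Z] [IsReduced Z]
    (i : Spec (CommRingCat.of L) ⟶ Z) [IsPreimmersion i] : IsIso i := by
  haveI : IsClosedImmersion i := .of_isPreimmersion i (isClosed_discrete _)
  haveI : Surjective i := ⟨fun z => ⟨IsLocalRing.closedPoint L, Subsingleton.elim _ _⟩⟩
  exact isIso_of_isClosedImmersion_of_surjective i

/-- An étale morphism realising a finite separable extension of a residue field. -/
theorem exists_etale_point {S : Scheme.{u}} (v : S) (L : Type u) [Field L] [Algebra (S.residueField v) L]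
    [Module.Finite (S.residueField v) L] [Algebra.IsSeparable (S.residueField v) L] :
    ∃ (S' : Scheme.{u}) (e : S' ⟶ S) (l : Spec (CommRingCat.of L) ⟶ S'), Etale e ∧ IsPreimmersion l ∧
      l ≫ e = Spec.map (CommRingCat.ofHom (algebraMap (S.residueField v) L)) ≫ S.fromSpecResidueField v := by
  obtain ⟨W, hW, hv, -⟩ := exists_isAffineOpen_mem_and_subset (X := S) (x := v) (U := ⊤) trivial
  let A := Γ(S, W)
  let ev : A →+* S.residueField v := (S.evaluation W v hv).hom
  let p : Ideal A := RingHom.ker ev
  haveI : p.IsPrime := RingHom.ker_isPrime _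
  let τ : p.ResidueField →+* S.residueField v := Ideal.ResidueField.lift p ev le_rfl fun a ha => isUnit_iff_ne_zero.2 ha
  have hτ : ∀ a : A, τ (algebraMap A p.ResidueField a) = ev a := fun a =>
    Ideal.ResidueField.lift_algebraMap p ev le_rfl _ a
  have hsurj : Function.Surjective τ := fun z => by
    obtain ⟨a, b, rfl⟩ := VarDim.exists_evaluation_eq_div hW v hv z
    exact ⟨algebraMap A p.ResidueField a / algebraMap A p.ResidueField b, by rw [map_div₀, hτ, hτ]⟩
  letI : Algebra p.ResidueField (S.residueField v) := τ.toAlgebra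
  letI : Algebra p.ResidueField L := ((algebraMap (S.residueField v) L).comp τ).toAlgebra
  haveI : IsScalarTower p.ResidueField (S.residueField v) L := IsScalarTower.of_algebraMap_eq fun _ => rfl
  haveI : Module.Finite p.ResidueField (S.residueField v) :=
    Module.Finite.of_surjective (Algebra.linearMap p.ResidueField (S.residueField v)) hsurj
  haveI : Algebra.IsSeparable p.ResidueField (S.residueField v) := ⟨fun z => by
    obtain ⟨y, rfl⟩ := hsurj z
    exact isSeparable_algebraMap (F := p.ResidueField) y⟩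
  haveI : Module.Finite p.ResidueField L := Module.Finite.trans (S.residueField v) L
  haveI : Algebra.IsSeparable p.ResidueField L := Algebra.IsSeparable.trans p.ResidueField (S.residueField v) L
  letI : Algebra A L := ((algebraMap (S.residueField v) L).comp ev).toAlgebra
  haveI : IsScalarTower A p.ResidueField L := IsScalarTower.of_algebraMap_eq fun a =>
    (congrArg (algebraMap (S.residueField v) L) (hτ a)).symm
  obtain ⟨R', _, _, _, q, _, -, ⟨ε⟩⟩ := ER4.exists_etale_residueField_ext p L
  let e : Spec (CommRingCat.of R') ⟶ S := Spec.map (CommRingCat.ofHom (algebraMap A R')) ≫ hW.fromSpec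
  let ψ : R' →+* L := ε.symm.toAlgHom.toRingHom.comp (algebraMap R' q.ResidueField)
  refine ⟨_, e, Spec.map (CommRingCat.ofHom ψ), ?_, ?_, ?_⟩
  · haveI : Etale (Spec.map (CommRingCat.ofHom (algebraMap A R'))) :=
      (HasRingHomProperty.Spec_iff (P := @Etale)).2 (RingHom.etale_algebraMap.2 inferInstance)
    infer_instance
  · haveI h1 : IsPreimmersion (Spec.map (CommRingCat.ofHom (algebraMap R' (Localization.AtPrime q)))) :=
      IsPreimmersion.of_isLocalization q.primeCompl
    haveI h2 : IsClosedImmersion (Spec.map (CommRingCat.ofHom (algebraMap (Localization.AtPrime q) q.ResidueField))) :=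
      IsClosedImmersion.spec_of_surjective _ Ideal.Quotient.mk_surjective
    haveI h3 : IsClosedImmersion (Spec.map (CommRingCat.ofHom ε.symm.toAlgHom.toRingHom)) :=
      IsClosedImmersion.spec_of_surjective _ ε.symm.surjective
    rw [show CommRingCat.ofHom ψ = (CommRingCat.ofHom (algebraMap R' (Localization.AtPrime q)) ≫
      CommRingCat.ofHom (algebraMap (Localization.AtPrime q) q.ResidueField)) ≫
      CommRingCat.ofHom ε.symm.toAlgHom.toRingHom from CommRingCat.hom_ext (RingHom.ext fun r => congrArg ε.symm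
        (IsScalarTower.algebraMap_apply R' (Localization.AtPrime q) q.ResidueField r)), Spec.map_comp, Spec.map_comp]
    infer_instance
  · have h : CommRingCat.ofHom (algebraMap A R') ≫ CommRingCat.ofHom ψ =
        S.evaluation W v hv ≫ CommRingCat.ofHom (algebraMap (S.residueField v) L) := CommRingCat.hom_ext (RingHom.ext fun a => by
      show ε.symm (algebraMap R' q.ResidueField (algebraMap A R' a)) = algebraMap A L a
      rw [← IsScalarTower.algebraMap_apply A R' q.ResidueField, AlgEquiv.commutes])
    show Spec.map _ ≫ Spec.map _ ≫ hW.fromSpec = _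
    rw [← Spec.map_comp_assoc, h, Spec.map_comp, Category.assoc]
    refine congrArg (Spec.map (CommRingCat.ofHom (algebraMap (S.residueField v) L)) ≫ ·) ?_
    rw [Scheme.evaluation, Spec.map_comp, Category.assoc]
    exact congrArg (Spec.map (S.residue v) ≫ ·) (hW.fromSpecStalk_eq_fromSpecStalk hv)

variable {X : Scheme.{u}} [QuasiSeparatedSpace X] [IsReduced X] (η : X) (hη : ∀ y : X, y ⤳ η → y = η)

include hη in
/-- Étale neighbourhoods over the local ring at a maximal point are refined from the scheme. -/
theorem exists_fib_refinement {Ω : Type u} [Field Ω] [IsSepClosed Ω]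
    (ζ : Spec (CommRingCat.of Ω) ⟶ Spec (X.presheaf.stalk η)) {V : X.Etale} {U : (Spec (X.presheaf.stalk η)).Etale}
    (h : U ⟶ (EtCoh.bc (X.fromSpecStalk η)).obj V) (φ : fib ζ U) :
    ∃ (V' : X.Etale) (gV : V' ⟶ V) (m : (EtCoh.bc (X.fromSpecStalk η)).obj V' ⟶ U)
      (x : fib (ζ ≫ X.fromSpecStalk η) V'),
      m ≫ h = (EtCoh.bc (X.fromSpecStalk η)).map gV ∧
        (Scheme.pointSmallEtale ζ).fiber.map m (liftFib (X.fromSpecStalk η) ζ x) = φ := by
  let g := X.fromSpecStalk η
  haveI hg : IsPreimmersion g := IsAffineOpen.fromSpecStalk_isPreimmersion _ _ _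
  haveI : IsReduced (Spec (X.presheaf.stalk η)) := inferInstance
  have hpt : ∀ a : Spec (X.presheaf.stalk η), g a = η := fun a =>
    hη _ ((Scheme.range_fromSpecStalk (X := X) (x := η)).subset ⟨a, rfl⟩)
  have hpt' : ∀ (W : X.Etale) (a : ((EtCoh.bc g).obj W).left), W.hom (bcFst g W a) = η := fun W a => by
    rw [show W.hom (bcFst g W a) = g (pullback.snd W.hom g a) from
      (Scheme.Hom.comp_apply _ _ _).symm.trans ((congrArg (fun t : pullback W.hom g ⟶ X => t a)
        pullback.condition).trans (Scheme.Hom.comp_apply _ _ _))]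
    exact hpt _
  haveI : IsPreimmersion (bcFst g V) := MorphismProperty.pullback_fst (P := @IsPreimmersion) V.hom g hg
  haveI : Etale h.left := by
    have h1 : Etale (h.left ≫ ((EtCoh.bc g).obj V).hom) := by
      rw [MorphismProperty.Over.w h]; exact U.prop
    have h2 : Etale ((EtCoh.bc g).obj V).hom := ((EtCoh.bc g).obj V).prop
    exact Etale.of_comp h.left ((EtCoh.bc g).obj V).hom
  let u : U.left := fibPt φ
  let a := h.left u
  let L := U.left.residueField u
  let K' := ((EtCoh.bc g).obj V).left.residueField a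
  let kv := V.left.residueField (bcFst g V a)
  letI : Algebra K' L := (h.left.residueFieldMap u).hom.toAlgebra
  letI : Algebra kv K' := ((bcFst g V).residueFieldMap a).hom.toAlgebra
  letI : Algebra kv L := ((h.left.residueFieldMap u).hom.comp ((bcFst g V).residueFieldMap a).hom).toAlgebra
  haveI : IsScalarTower kv K' L := IsScalarTower.of_algebraMap_eq fun _ => rfl
  haveI : Module.Finite K' L := RingHom.finite_algebraMap.1 (EtaleFibre12.finite_residueFieldMap h.left u)
  haveI : Algebra.IsSeparable K' L := by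
    show Algebra.IsSeparable (((EtCoh.bc g).obj V).left.residueField (h.left u)) (U.left.residueField u)
    infer_instance
  have hsurj : Function.Surjective (algebraMap kv K') := fun z => by
    obtain ⟨b, rfl⟩ := Scheme.residue_surjective _ a z
    obtain ⟨c, rfl⟩ := (bcFst g V).stalkMap_surjective a b
    exact ⟨V.left.residue _ c, congr($(Scheme.residue_residueFieldMap (bcFst g V) a) c)⟩
  haveI : Module.Finite kv K' := Module.Finite.of_surjective (Algebra.linearMap kv K') hsurj
  haveI : Algebra.IsSeparable kv K' := ⟨fun z => by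
    obtain ⟨y, rfl⟩ := hsurj z
    exact isSeparable_algebraMap (F := kv) y⟩
  haveI : Module.Finite kv L := Module.Finite.trans K' L
  haveI : Algebra.IsSeparable kv L := Algebra.IsSeparable.trans kv K' L
  obtain ⟨S', e, l, he, hl, hle⟩ := exists_etale_point (bcFst g V a) L
  have hle' : l ≫ e = U.left.fromSpecResidueField u ≫ h.left ≫ bcFst g V := by
    rw [hle, ← Scheme.Hom.SpecMap_residueFieldMap_fromSpecResidueField_assoc h.left u (bcFst g V),
      ← Scheme.Hom.SpecMap_residueFieldMap_fromSpecResidueField (bcFst g V) (h.left u), ← Spec.map_comp_assoc]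
    rfl
  haveI : Etale V.hom := V.prop
  let V₀ : X.Etale := Scheme.Etale.mk (e ≫ V.hom)
  let v' : V₀.left := l (IsLocalRing.closedPoint L)
  have hv' : V₀.hom v' = η := by
    show (e ≫ V.hom) (l (IsLocalRing.closedPoint L)) = η
    rw [← Scheme.Hom.comp_apply, ← Category.assoc, hle', Scheme.Hom.comp_apply, Scheme.Hom.comp_apply,
      Scheme.Hom.comp_apply]
    exact hpt' V _
  obtain ⟨B, hB, huniq⟩ := exists_nhd_single η hη V₀ v' hv'
  have hsub : Set.range l ⊆ Set.range B.ι := by
    rintro _ ⟨c, rfl⟩
    rw [Scheme.Opens.range_ι, Subsingleton.elim c (IsLocalRing.closedPoint L)]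
    exact hB
  haveI hBι : IsOpenImmersion B.ι := inferInstance
  let l' : Spec (CommRingCat.of L) ⟶ B.toScheme := @IsOpenImmersion.lift _ _ _ B.ι l hBι hsub
  have hl' : l' ≫ B.ι = l := @IsOpenImmersion.lift_fac _ _ _ B.ι l hBι hsub
  haveI : IsPreimmersion (l' ≫ B.ι) := hl'.symm ▸ hl
  haveI : IsPreimmersion l' := IsPreimmersion.of_comp l' B.ι
  let V' := EtSite.sub V₀ B
  let gV : V' ⟶ V := MorphismProperty.Over.homMk (B.ι ≫ e) (Category.assoc _ _ _)
  let s : Spec (CommRingCat.of L) ⟶ U.left := U.left.fromSpecResidueField u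
  let i : Spec (CommRingCat.of L) ⟶ ((EtCoh.bc g).obj V').left :=
    pullback.lift l' (s ≫ U.hom) (by
      show l' ≫ B.ι ≫ e ≫ V.hom = _
      rw [reassoc_of% hl', reassoc_of% hle', ← MorphismProperty.Over.w h]
      simp only [Category.assoc]
      exact congrArg (fun t => s ≫ h.left ≫ t) pullback.condition)
  have hi : i ≫ bcFst g V' = l' := pullback.lift_fst _ _ _
  have hi2 : i ≫ ((EtCoh.bc g).obj V').hom = s ≫ U.hom := pullback.lift_snd _ _ _
  haveI : IsPreimmersion (bcFst g V') := MorphismProperty.pullback_fst (P := @IsPreimmersion) V'.hom g hg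
  haveI : IsPreimmersion (i ≫ bcFst g V') := hi.symm ▸ inferInstance
  haveI : IsPreimmersion i := IsPreimmersion.of_comp i (bcFst g V')
  haveI : Subsingleton ((EtCoh.bc g).obj V').left := by
    refine ⟨fun a b => (bcFst g V').isEmbedding.injective ?_⟩
    have key : ∀ c, B.ι (bcFst g V' c) = v' := fun c => huniq _ (bcFst g V' c).2 (hpt' V' c)
    exact B.ι.isOpenEmbedding.injective ((key a).trans (key b).symm)
  haveI : IsReduced ((EtCoh.bc g).obj V').left := by
    haveI : Etale ((EtCoh.bc g).obj V').hom := ((EtCoh.bc g).obj V').prop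
    exact @isReduced_of_etale (Spec (X.presheaf.stalk η)) _ ((EtCoh.bc g).obj V').hom _ inferInstance
  haveI : IsIso i := isIso_of_preimmersion i
  let m : (EtCoh.bc g).obj V' ⟶ U := MorphismProperty.Over.homMk (inv i ≫ s) (by
    rw [Category.assoc, ← hi2, IsIso.inv_hom_id_assoc])
  have hm : i ≫ m.left = s := IsIso.hom_inv_id_assoc i s
  let φl : Spec (CommRingCat.of Ω) ⟶ U.left := φ.left
  obtain ⟨t, ht⟩ : ∃ t : Spec (CommRingCat.of Ω) ⟶ Spec (CommRingCat.of L), t ≫ s = φl := by
    refine ⟨Spec.map ((U.left.residueFieldCongr ?_).hom ≫ (Scheme.descResidueField (Scheme.stalkClosedPointTo φl))), ?_⟩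
    · exact congrArg φl (Subsingleton.elim _ _)
    · rw [Spec.map_comp, Category.assoc, Scheme.residueFieldCongr_fromSpecResidueField]
      exact Scheme.descResidueField_stalkClosedPointTo_fromSpecResidueField Ω U.left φl
  have hw : φl ≫ U.hom = ζ := Over.w φ
  let ψ : fib ζ ((EtCoh.bc g).obj V') := Over.homMk (t ≫ i) (by
    exact (Category.assoc _ _ _).trans ((congrArg (t ≫ ·) hi2).trans
      ((Category.assoc _ _ _).symm.trans ((congrArg (· ≫ U.hom) ht).trans hw))))
  refine ⟨V', gV, m, dropFib g ζ ψ, ?_, ?_⟩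
  · refine MorphismProperty.Over.Hom.ext ?_
    rw [← cancel_epi i, ← cancel_mono (bcFst g V)]
    show i ≫ (m.left ≫ h.left) ≫ bcFst g V = i ≫ ((EtCoh.bc g).map gV).left ≫ bcFst g V
    simp only [Category.assoc]
    rw [reassoc_of% hm, bcFst_nat, reassoc_of% hi]
    show _ = l' ≫ B.ι ≫ e
    rw [reassoc_of% hl']
    exact hle'.symm
  · rw [show liftFib g ζ (dropFib g ζ ψ) = ψ from ((fiberIso g ζ).app V').toEquiv.apply_symm_apply ψ]
    refine Over.OverMorphism.ext ?_
    show (t ≫ i) ≫ m.left = φl
    rw [Category.assoc, hm, ht]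

include hη in
/-- At a maximal point the stalk of a direct image is the stalk. -/
theorem bijective_pushStalk_maxPt {Ω : Type u} [Field Ω] [IsSepClosed Ω]
    (ζ : Spec (CommRingCat.of Ω) ⟶ Spec (X.presheaf.stalk η)) (G : EtCoh.Ab (Spec (X.presheaf.stalk η))) :
    Function.Bijective (pushStalk (X.fromSpecStalk η) ζ G) := by
  constructor
  · refine (injective_iff_map_eq_zero _).2 fun p hp => ?_
    obtain ⟨V, x, s, rfl⟩ := germ_surjective _ _ p
    rw [germ_pushStalk, ← map_zero (germ ζ G (liftFib (X.fromSpecStalk η) ζ x)).hom] at hp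
    obtain ⟨U, g, φ, hφ, he⟩ := (germ_eq_iff ζ G _ s 0).1 hp
    obtain ⟨V', gV, m, x', hm, hx'⟩ := exists_fib_refinement η hη ζ g φ
    have hx : (Scheme.pointSmallEtale (ζ ≫ X.fromSpecStalk η)).fiber.map gV x' = x := by
      refine ((fiberIso (X.fromSpecStalk η) ζ).app V).toEquiv.injective ?_
      change liftFib _ ζ _ = liftFib _ ζ x
      rw [liftFib_map, ← hm, Functor.map_comp, ConcreteCategory.comp_apply, hx', hφ]
    rw [← hx, ← germ_map]
    have h0 : ((EtCoh.push (X.fromSpecStalk η)).obj G).obj.map gV.op s = 0 := by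
      change G.obj.map ((EtCoh.bc _).map gV).op s = 0
      rw [← hm, op_comp, G.obj.map_comp, ConcreteCategory.comp_apply, he, map_zero, map_zero]
    rw [h0, map_zero]
  · intro p
    obtain ⟨U, φ, t, rfl⟩ := germ_surjective _ _ p
    have hT : IsTerminal ((EtCoh.bc (X.fromSpecStalk η)).obj (EtCoh.top X)) :=
      IsTerminal.isTerminalObj (EtCoh.bc _) _ (MorphismProperty.Over.mkIdTerminal _ _)
    obtain ⟨V', gV, m, x', -, hx'⟩ := exists_fib_refinement η hη ζ (hT.from U) φ
    exact ⟨germ _ ((EtCoh.push (X.fromSpecStalk η)).obj G) x' (G.obj.map m.op t),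
      (germ_pushStalk _ _ _ _ _).trans ((germ_map _ _ _ _ _).trans (by rw [hx']))⟩

end Groth.Agent.FieldBr3
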