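import Groth.Agent.Lib.FieldBr3.Devissage
import Groth.Agent.Lib.Brauer25.CyclicBr
import Groth.Agent.Lib.CSAlg.Index
import Groth.Agent.S0212
import Groth.Agent.S0213

/-!
# Fields with trivial Brauer groups have surjective norms
-/

set_option autoImplicit false
set_option linter.style.haveILetI false
set_option maxHeartbeats 1000000

universe u

open scoped TensorProduct

namespace Groth.Agent.FieldBr3

open Groth.Agent

/-- A central simple algebra is split when central division algebras are trivial. -/
theorem splits_self_of_trivial {k : Type u} [Field k]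
    (hBr : ∀ (D : Type u) [DivisionRing D] [Algebra k D] [Algebra.IsCentral k D] [FiniteDimensional k D],
      Module.finrank k D = 1)
    (A : Type u) [Ring A] [Algebra k A] [Algebra.IsCentral k A] [IsSimpleRing A] [FiniteDimensional k A] :
    Curves.Splits k A k := by
  obtain ⟨n, hn, D, _, _, _, _, ⟨e⟩⟩ := CSAlg.exists_algEquiv_matrix_central_divisionRing (k := k) A
  have h1 := hBr D
  let f : k ≃ₐ[k] D := AlgEquiv.ofBijective (Algebra.ofId k D) ⟨(algebraMap k D).injective,
    (LinearMap.injective_iff_surjective_of_finrank_eq_finrank (f := (Algebra.ofId k D).toLinearMap)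
      (by rw [h1, Module.finrank_self])).1 (algebraMap k D).injective⟩
  exact ⟨n, hn.out, ⟨(Algebra.TensorProduct.lid k A).trans (e.trans f.symm.mapMatrix)⟩⟩

/-- Fields all of whose finite extensions have trivial Brauer groups have surjective norms. -/
theorem normSurj_of_brauer (K : Type u) [Field K]
    (hBr : ∀ (K' : Type u) [Field K'] [Algebra K K'] [FiniteDimensional K K']
      (D : Type u) [DivisionRing D] [Algebra K' D] [Algebra.IsCentral K' D] [FiniteDimensional K' D],
      Module.finrank K' D = 1) : NormSurj K := by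
  intro K' _ _ _ _ L _ _ _ _ hp x hx
  haveI : Fact (Module.finrank K' L).Prime := ⟨hp⟩
  haveI : IsCyclic (L ≃ₐ[K'] L) := isCyclic_of_prime_card (IsGalois.card_aut_eq_finrank K' L)
  obtain ⟨σ, hσ⟩ := IsCyclic.exists_generator (α := L ≃ₐ[K'] L)
  let b : K'ˣ := Units.mk0 x hx
  have hA := Brauer25.Cyclic.isCyclicAlg_model σ hσ b
  obtain ⟨_, _⟩ := Brauer25.Cyclic.isCSA_of_isCyclicAlg hσ hA
  obtain ⟨_, _, _⟩ := Brauer25.Cyclic.finite_of_isCyclicAlg hA
  exact (Brauer25.Cyclic.splits_iff_isNorm hσ hA).1 (splits_self_of_trivial (fun D => hBr K' D) _)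

/-- The Tsen condition gives trivial Brauer groups over finite extensions. -/
theorem brauer_trivial_of_isCr_one (K : Type u) [Field K] (hK : Curves.IsCr K 1)
    (K' : Type u) [Field K'] [Algebra K K'] [FiniteDimensional K K']
    (D : Type u) [DivisionRing D] [Algebra K' D] [Algebra.IsCentral K' D] [FiniteDimensional K' D] :
    Module.finrank K' D = 1 :=
  CSAlg.finrank_eq_one_of_isCr_one (S0213.result K K' hK) D

end Groth.Agent.FieldBr3
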