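import Groth.Agent.Lib.FieldBr3.Devissage
import Groth.Agent.Lib.FieldH25.CohDim
import Groth.Agent.Lib.Kummer24.MuConst
import Groth.Agent.Lib.Dix24.Kummer

/-!
# Cohomological dimension one from surjective norms
-/

set_option autoImplicit false
set_option linter.style.haveILetI false
set_option backward.isDefEq.respectTransparency false
set_option backward.isDefEq.respectTransparency.types false
set_option maxHeartbeats 1000000

universe u

open CategoryTheory CategoryTheory.Limits AlgebraicGeometry Opposite CategoryTheory.Abelian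

namespace Groth.Agent.FieldBr3

open Groth.Agent.FieldH25 Groth.Agent.EtStalk

variable (K : Type u) [Field K] (p : ℕ)

theorem invertibleOn_spec (hp : (p : K) ≠ 0) : IsUnit (p : Γ(Spec (CommRingCat.of K), ⊤)) := by
  rw [← map_natCast (Scheme.ΓSpecIso (CommRingCat.of K)).inv.hom p]
  exact (isUnit_iff_ne_zero.2 hp).map _

/-- With a `p`-th root of unity, `H²(K, ℤ/p)` vanishes. -/
theorem subsingleton_H2_zmod (hK : NormSurj K) [Fact p.Prime] (hp : (p : K) ≠ 0) (ζ : K)
    (hζ : IsPrimitiveRoot ζ p) :
    Subsingleton (EtCoh.H (Spec (CommRingCat.of K)) (EtCoh.const (Spec (CommRingCat.of K)) (ZMod p)) 2) := by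
  let S := Spec (CommRingCat.of K)
  have hu := invertibleOn_spec K p hp
  obtain ⟨e⟩ := Kummer24.nonempty_mu_iso (S := S) (n := p) (Fact.out : p.Prime).one_le hu
    ((Scheme.ΓSpecIso (CommRingCat.of K)).inv ζ) (by
      have h := hζ.isRoot_cyclotomic (Fact.out : p.Prime).pos
      rw [← Polynomial.map_cyclotomic p (Int.castRingHom K), Polynomial.IsRoot, Polynomial.eval_map] at h
      have h' := congrArg (Scheme.ΓSpecIso (CommRingCat.of K)).inv h
      rw [map_zero] at h'
      refine Eq.trans ?_ h'
      rw [Polynomial.aeval_def, Polynomial.hom_eval₂]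
      congr 1
      exact RingHom.ext_int _ _)
  haveI : Epi (EtCoh.powMap S p) := Groth.Agent.S0108.result S p hu
  let T := ShortComplex.mk (EtCoh.muι S p) (EtCoh.powMap S p) (kernel.condition _)
  have hT : T.ShortExact :=
    { exact := ShortComplex.exact_of_f_is_kernel _ (kernelIsKernel (EtCoh.powMap S p))
      mono_f := inferInstanceAs (Mono (kernel.ι (EtCoh.powMap S p)))
      epi_g := inferInstanceAs (Epi (EtCoh.powMap S p)) }
  have h2 := subsingleton_H2_Gm K hK
  have h1 := subsingleton_H_one_Gm (k := K)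
  refine subsingleton_of_forall_eq 0 fun x => ?_
  have hy : x.comp (Ext.mk₀ e.inv) (add_zero 2) = 0 := by
    obtain ⟨c, hc⟩ := Ext.covariant_sequence_exact₁ _ hT (x.comp (Ext.mk₀ e.inv) (add_zero 2)) (h2.elim _ _)
      (n₀ := 1) rfl
    rw [← hc, show c = 0 from h1.elim _ _, Ext.zero_comp]
  exact eq_zero_of_comp_iso x e.symm hy

/-- Finite sheaves killed by `p` have no second cohomology. -/
theorem subsingleton_H2_finite [Fact p.Prime] : ∀ (N : ℕ) (k : Type u) [Field k] (_ : NormSurj k) (_ : (p : k) ≠ 0)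
    (Ω : Type u) [Field Ω] [Algebra k Ω] [IsSepClosed Ω] [IsGalois k Ω] (G : EtCoh.Ab (Spec (CommRingCat.of k)))
    [Finite ((EtCoh.stalk (sepPt k Ω)).obj G)], Nat.card ((EtCoh.stalk (sepPt k Ω)).obj G) ≤ N → p • 𝟙 G = 0 →
    Subsingleton (EtCoh.H (Spec (CommRingCat.of k)) G 2) := by
  intro N
  induction N with
  | zero =>
    intro k _ _ _ Ω _ _ _ _ G _ hN
    exact absurd hN (Nat.not_le.2 Nat.card_pos)
  | succ N ih =>
    intro k _ hk hpk Ω _ _ _ _ G _ hN hG
    rcases subsingleton_or_nontrivial ((EtCoh.stalk (sepPt k Ω)).obj G) with h | h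
    · refine subsingleton_of_forall_eq 0 fun x => ?_
      have hid : 𝟙 G = 0 := Sheaf.hom_ext (NatTrans.ext (funext fun U => AddCommGrpCat.ext fun s =>
        FieldH25.sect_ext Ω G (U := U.unop) _ _ fun φ => h.elim _ _))
      rw [← Sheaf.H.map_id_apply x, hid]
      exact (congrArg (fun t => Ext.comp x t (add_zero 2)) (Ext.mk₀_zero _ _)).trans (Ext.comp_zero _ _ _ _ _)
    obtain ⟨M₀, _, _, hM₀⟩ := exists_split Ω G
    haveI : NeZero (p : Ω) := ⟨by
      rw [← map_natCast (algebraMap k Ω)]
      exact fun h => hpk ((map_eq_zero_iff _ (algebraMap k Ω).injective).1 h)⟩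
    obtain ⟨ζ, hζ⟩ := IsSepClosed.exists_root (Polynomial.cyclotomic p Ω)
      (Polynomial.degree_cyclotomic_pos p Ω (Fact.out : p.Prime).pos).ne' (Polynomial.separable_cyclotomic p Ω)
    have hprim : IsPrimitiveRoot ζ p := Polynomial.isRoot_cyclotomic_iff.1 hζ
    have hint : IsIntegral k ζ := (Algebra.IsAlgebraic.isAlgebraic ζ).isIntegral
    let Z := IntermediateField.adjoin k ({ζ} : Set Ω)
    haveI : FiniteDimensional k Z := IntermediateField.adjoin.finiteDimensional hint
    haveI : FiniteDimensional k (M₀ ⊔ Z : IntermediateField k Ω) := IntermediateField.finiteDimensional_sup M₀ Z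
    let M : IntermediateField k Ω := IntermediateField.normalClosure k (M₀ ⊔ Z : IntermediateField k Ω) Ω
    haveI : FiniteDimensional k M := normalClosure.is_finiteDimensional k (M₀ ⊔ Z : IntermediateField k Ω) Ω
    haveI : IsGalois k M := IsGalois.normalClosure k _ Ω
    have hle : M₀ ⊔ Z ≤ M := IntermediateField.le_normalClosure _
    have hM : Function.Surjective (germ (sepPt k Ω) G (extPt k Ω M)) := fun q => by
      obtain ⟨s, hs⟩ := hM₀ q
      refine ⟨G.obj.map (extMap k (IntermediateField.inclusion (le_sup_left.trans hle : M₀ ≤ M))).op s, ?_⟩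
      rw [germ_map]
      refine Eq.trans ?_ hs
      refine congrArg (fun t => germ (sepPt k Ω) G t s) (Over.OverMorphism.ext ?_)
      show specExt M Ω ≫ Spec.map (CommRingCat.ofHom _) = specExt M₀ Ω
      rw [← Spec.map_comp]
      exact congrArg Spec.map (CommRingCat.hom_ext (RingHom.ext fun _ => rfl))
    have hζM : ζ ∈ M := (le_sup_right.trans hle : Z ≤ M) (IntermediateField.mem_adjoin_simple_self k ζ)
    let ζM : M := ⟨ζ, hζM⟩
    have hζM' : IsPrimitiveRoot ζM p := IsPrimitiveRoot.of_map_of_injective (f := M.val) hprim M.val.injective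
    let P : Sylow p (M ≃ₐ[k] M) := default
    let k' := IntermediateField.fixedField P.toSubgroup
    obtain ⟨a, ha⟩ := P.isPGroup'.exists_card_eq
    have hfin : Module.finrank k' M = p ^ a := (IntermediateField.finrank_fixedField_eq_card _).trans ha
    have hndvd : ¬ p ∣ Module.finrank k k' := by
      have h : Module.finrank k k' = P.toSubgroup.index := by
        refine Nat.eq_of_mul_eq_mul_right (Nat.pow_pos (Fact.out : p.Prime).pos (n := a)) ?_
        rw [← hfin, Module.finrank_mul_finrank, ← IsGalois.card_aut_eq_finrank, hfin,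
          ← Subgroup.index_mul_card P.toSubgroup, ha]
      rw [h]
      exact P.not_dvd_index
    haveI : IsScalarTower k' M Ω := IsScalarTower.of_algebraMap_eq fun _ => rfl
    haveI : IsScalarTower k k' Ω := IsScalarTower.of_algebraMap_eq fun _ => rfl
    haveI : IsGalois k' Ω := IsGalois.tower_top_of_isGalois k k' Ω
    haveI : IsGalois k' M := IsGalois.tower_top_of_isGalois k k' M
    -- the root of unity lies in the fixed field
    have hfixed : ∀ g : M ≃ₐ[k'] M, g ζM = ζM := fun g => by
      let χ := hζM'.autToPow k'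
      have h1 : orderOf g ∣ p ^ a := hfin ▸ IsGalois.card_aut_eq_finrank k' M ▸ orderOf_dvd_natCard g
      have h2 : χ g = 1 := by
        refine orderOf_eq_one_iff.1 (Nat.eq_one_of_dvd_coprimes ?_ ((orderOf_map_dvd χ g).trans h1) orderOf_dvd_card)
        rw [ZMod.card_units_eq_totient, Nat.totient_prime Fact.out]
        exact Nat.Coprime.pow_left a (((Nat.Prime.coprime_iff_not_dvd Fact.out).2 fun hd =>
          absurd (Nat.le_of_dvd (by have := (Fact.out : p.Prime).two_le; omega) hd) (by
            have := (Fact.out : p.Prime).two_le; omega)))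
      have h3 := hζM'.autToPow_spec k' g
      rw [show hζM'.autToPow k' g = 1 from h2, Units.val_one, ZMod.val_one, pow_one] at h3
      exact h3.symm
    obtain ⟨ζ', hζ'⟩ := (IsGalois.mem_range_algebraMap_iff_fixed ζM).2 hfixed
    have hζ'' : IsPrimitiveRoot ζ' p := IsPrimitiveRoot.of_map_of_injective (f := algebraMap k' M)
      (hζ'.symm ▸ hζM') (algebraMap k' M).injective
    obtain ⟨hM', hcard⟩ := surjective_germ_baseChange Ω G M k' hM
    let g := specExt k k'
    let G' := (EtCoh.pull g).obj G
    haveI : Finite ((EtCoh.stalk (sepPt k' Ω)).obj G') := Nat.finite_of_card_ne_zero (by rw [hcard]; exact Nat.card_pos.ne')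
    haveI : Nontrivial ((EtCoh.stalk (sepPt k' Ω)).obj G') := Finite.one_lt_card_iff_nontrivial.1
      (by rw [hcard]; exact Finite.one_lt_card)
    have hG' : p • 𝟙 G' = 0 := by
      haveI : (EtCoh.pull g).Additive := inferInstance
      rw [show p • 𝟙 G' = (EtCoh.pull g).map (p • 𝟙 G) by rw [Functor.map_nsmul, CategoryTheory.Functor.map_id],
        hG, Functor.map_zero]
    have hpk' : (p : k') ≠ 0 := fun h => hpk ((map_eq_zero_iff _ (algebraMap k k').injective).1 (by
      rw [map_natCast]; exact h))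
    obtain ⟨κ, hκ, hfinC, hlt⟩ := exists_const_mono Ω G' p hG' M hM' a hfin
    have hC : p • 𝟙 (cokernel κ) = 0 := by
      rw [← cancel_epi (cokernel.π κ), Preadditive.comp_nsmul, Category.comp_id, comp_zero]
      rw [show p • cokernel.π κ = (p • 𝟙 G') ≫ cokernel.π κ by rw [Preadditive.nsmul_comp, Category.id_comp],
        hG', zero_comp]
    haveI := hfinC
    have h9 : Nat.card ((EtCoh.stalk (sepPt k' Ω)).obj G') = Nat.card ((EtCoh.stalk (sepPt k Ω)).obj G) := hcard
    have h2 := ih k' (hk.trans k') hpk' Ω (cokernel κ) (by omega) hC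
    have h3 := subsingleton_H2_zmod k' p (hk.trans k') hpk' ζ' hζ''
    let S := ShortComplex.mk κ (cokernel.π κ) (cokernel.condition _)
    have hS : S.ShortExact := { exact := ShortComplex.exact_cokernel _ }
    refine subsingleton_of_forall_eq 0 fun x => ?_
    have hx' : EtCore.Hpull g G 2 x = 0 := by
      obtain ⟨w, hw⟩ := Ext.covariant_sequence_exact₂ _ hS (EtCore.Hpull g G 2 x) (h2.elim _ _)
      rw [← hw, show w = 0 from h3.elim _ _]
      simp
    have h4 := finrank_nsmul_eq_zero k k' G 2 x hx'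
    have h5 : p • x = 0 := by
      rw [← H_map_nsmul_id G p 2 x, hG]
      have h := H_map_nsmul_id G 0 2 x
      rwa [zero_nsmul, zero_nsmul] at h
    exact AddMonoid.addOrderOf_eq_one_iff.1 (Nat.eq_one_of_dvd_coprimes
      ((Nat.Prime.coprime_iff_not_dvd Fact.out).2 hndvd)
      (addOrderOf_dvd_of_nsmul_eq_zero h5) (addOrderOf_dvd_of_nsmul_eq_zero h4))

/-- Finite sheaves killed by `p` have no cohomology above degree one. -/
theorem subsingleton_H_finite [Fact p.Prime] (hK : NormSurj K) (hp : (p : K) ≠ 0) (Ω : Type u) [Field Ω]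
    [Algebra K Ω] [IsSepClosed Ω] [IsGalois K Ω] (j : ℕ) : ∀ (G : EtCoh.Ab (Spec (CommRingCat.of K)))
    [Finite ((EtCoh.stalk (sepPt K Ω)).obj G)], p • 𝟙 G = 0 →
      Subsingleton (EtCoh.H (Spec (CommRingCat.of K)) G (2 + j)) := by
  induction j with
  | zero => exact fun G _ hG => subsingleton_H2_finite p _ K hK hp Ω G le_rfl hG
  | succ j ih =>
    intro G _ hG
    refine subsingleton_of_forall_eq 0 fun x => ?_
    obtain ⟨M, _, _, _, _, _, hx⟩ := exists_efface (2 + j) G x
    let ι' := (restrPushAdj (specExt K M)).unit.app G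
    let R := EtShriek.restrAlong (specExt K M) ⋙ EtCoh.push (specExt K M)
    haveI := finite_stalk_coind K Ω M G
    haveI : Mono ι' := by
      rw [mono_iff_app_injective]
      rintro ⟨W⟩ s t hst
      have h1 : G.obj.map ((compBcAdj (specExt K M)).counit.app W).op s =
          G.obj.map ((compBcAdj (specExt K M)).counit.app W).op t := hst
      refine eq_of_agree G fun z => ⟨_, (compBcAdj (specExt K M)).counit.app W, ?_, h1⟩
      obtain ⟨w, hw, -⟩ := Scheme.Pullback.exists_preimage_pullback (f := W.hom) (g := specExt K M) z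
        (IsLocalRing.closedPoint M) (Subsingleton.elim (α := PrimeSpectrum K) _ _)
      exact ⟨w, hw⟩
    let S : ShortComplex (EtCoh.Ab (Spec (CommRingCat.of K))) := ShortComplex.mk ι' (cokernel.π ι') (cokernel.condition _)
    have hS : S.ShortExact := { exact := ShortComplex.exact_cokernel _ }
    haveI : Finite ((EtCoh.stalk (sepPt K Ω)).obj (cokernel ι')) :=
      Finite.of_surjective _ ((EtStalk.epi_iff_stalk (cokernel.π ι')).1 inferInstance Ω (sepPt K Ω))
    haveI : R.Additive := by
      haveI : (EtCoh.push (specExt K M)).IsRightAdjoint := (EtCoh.pullPushAdj _).isRightAdjoint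
      haveI : (EtShriek.restrAlong (specExt K M)).IsRightAdjoint := (EtShriek.extZeroAdj _).isRightAdjoint
      haveI : PreservesFiniteProducts R := inferInstance
      exact Functor.additive_of_preserves_binary_products R
    have hC : p • 𝟙 (cokernel ι') = 0 := by
      rw [← cancel_epi (cokernel.π ι'), Preadditive.comp_nsmul, Category.comp_id, comp_zero]
      rw [show p • cokernel.π ι' = (p • 𝟙 (R.obj G)) ≫ cokernel.π ι' by rw [Preadditive.nsmul_comp, Category.id_comp],
        show p • 𝟙 (R.obj G) = R.map (p • 𝟙 G) by rw [Functor.map_nsmul, CategoryTheory.Functor.map_id],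
        hG, Functor.map_zero, zero_comp]
    obtain ⟨z, hz⟩ := Ext.covariant_sequence_exact₁ _ hS x hx (n₀ := 2 + j) rfl
    rw [← hz, show z = 0 from (ih (cokernel ι') hC).elim _ _]
    simp

/-- Torsion sheaves have no cohomology above degree one. -/
theorem subsingleton_H_torsion (hK : NormSurj K) (F : EtCoh.Ab (Spec (CommRingCat.of K))) (hF : EtCoh.IsTorsion F)
    {q : ℕ} (hq : 2 ≤ q) : Subsingleton (EtCoh.H (Spec (CommRingCat.of K)) F q) := by
  refine subsingleton_of_forall_eq 0 fun x => ?_
  refine AddMonoid.addOrderOf_eq_one_iff.1 (Nat.eq_one_iff_not_exists_prime_dvd.2 fun p hp hpo => ?_)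
  haveI := Fact.mk hp
  have hpos : 0 < addOrderOf x := (isOfFinAddOrder_H F (by omega) x).addOrderOf_pos
  obtain ⟨m, hm⟩ := hpo
  have h0 : m • x = 0 := by
    refine primary_vanishes_of_finite K p q (fun G _ hG => ?_) F hF _ ⟨1, ?_⟩
    · by_cases hpK : (p : K) = 0
      · haveI : CharP K p := (CharP.charP_iff_prime_eq_zero hp).2 hpK
        exact subsingleton_H_finite_charP p _ K (SeparableClosure K) G le_rfl hG q hq
      · obtain ⟨j, rfl⟩ := Nat.exists_eq_add_of_le hq
        exact subsingleton_H_finite K p hK hpK (SeparableClosure K) j G hG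
    · rw [pow_one, ← mul_nsmul', ← hm]
      exact addOrderOf_nsmul_eq_zero x
  have hm0 : 0 < m := Nat.pos_of_ne_zero fun h => by rw [h, mul_zero] at hm; omega
  have := Nat.le_of_dvd hm0 (addOrderOf_dvd_of_nsmul_eq_zero h0)
  nlinarith [hp.two_le]

/-- The multiplicative group has no higher cohomology. -/
theorem subsingleton_H_Gm (hK : NormSurj K) {q : ℕ} (hq : 1 ≤ q) :
    Subsingleton (EtCoh.H (Spec (CommRingCat.of K)) (EtCoh.Gm (Spec (CommRingCat.of K))) q) := by
  rcases Nat.lt_or_ge q 3 with h | h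
  · interval_cases q
    · exact subsingleton_H_one_Gm (k := K)
    · exact subsingleton_H2_Gm K hK
  refine subsingleton_of_forall_eq 0 fun x => ?_
  obtain ⟨N, hN, hNx⟩ := isOfFinAddOrder_iff_nsmul_eq_zero.1 (isOfFinAddOrder_H (EtCoh.Gm _) (by omega) x)
  have htor : ∀ Q : EtCoh.Ab (Spec (CommRingCat.of K)), N • 𝟙 Q = 0 → EtCoh.IsTorsion Q :=
    fun Q hQ => isTorsion_of_nsmul_id_eq_zero Q hN hQ
  obtain ⟨y, hy⟩ := Dix24.exists_of_nsmul_eq_zero N x hNx (Or.inr ⟨q - 1, by omega, fun Q hQ =>
    subsingleton_H_torsion K hK Q (htor Q hQ) (by omega)⟩)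
  rw [← hy, show y = 0 from (subsingleton_H_torsion K hK _ (htor _ (Dix24.nsmul_id_kernel N)) (by omega)).elim _ _,
    Ext.zero_comp]

end Groth.Agent.FieldBr3
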