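import Groth.Agent.Lib.FieldBr3.CohDim
import Groth.Agent.Lib.FieldBr3.Brauer
import Groth.Agent.Lib.EtPic3.CurveGmApply
import Groth.Agent.Lib.VarDim.Scheme
import Groth.Agent.Lib.TsenLang.Basic
import Groth.Agent.S0212

/-!
# Function fields of curves over algebraically closed fields
-/

set_option autoImplicit false
set_option linter.style.haveILetI false
set_option backward.isDefEq.respectTransparency false
set_option backward.isDefEq.respectTransparency.types false
set_option maxHeartbeats 1000000

universe u

open CategoryTheory CategoryTheory.Limits AlgebraicGeometry Opposite CategoryTheory.Abelian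

namespace Groth.Agent.FieldBr3

open Groth.Agent Groth.Agent.EtPic3

/-- An extension of transcendence degree at most one of an algebraically closed field is `C₁`. -/
theorem isCr_one_of_trdeg_le_one (k : Type u) [Field k] [IsAlgClosed k] (K : Type u) [Field K] [Algebra k K]
    (n : ℕ) (hn : n ≤ 1) (h : Algebra.trdeg k K = n) : Curves.IsCr K 1 := by
  have h2 := Groth.Agent.S0212.result k K n h
  refine TsenLang.isCr_one_of_isCi_one fun r m f d hf hd hlt => h2 r m f d hf hd (lt_of_le_of_lt ?_ hlt)
  exact Finset.sum_le_sum fun ρ _ => Nat.pow_le_pow_right (hd ρ) hn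

variable {k : Type u} [Field k] [IsAlgClosed k] {X : Scheme.{u}} (f : X ⟶ Spec (CommRingCat.of k))
  [LocallyOfFiniteType f] (hdim : topologicalKrullDim X ≤ 1)

include f hdim in
/-- Residue fields of curves are `C₁`. -/
theorem isCr_one_residueField (x : X) : Curves.IsCr (X.residueField x : Type u) 1 := by
  letI := VarDim.resAlg f x
  refine isCr_one_of_trdeg_le_one k _ (VarDim.sdim f x) ?_ (VarDim.trdeg_residueField f x)
  have h := (le_iSup (fun y : X => ((VarDim.sdim f y : ℕ) : WithBot ℕ∞)) x).trans
    ((VarDim.dim_eq_iSup_sdim f).ge.trans hdim)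
  exact_mod_cast h

include f hdim in
/-- On a reduced curve `G_m` has no higher cohomology at the maximal points. -/
theorem subsingleton_H_Gm_stalk [IsReduced X] {η : X} (hη : IsMaxPt X η) {q : ℕ} (hq : 1 ≤ q) :
    Subsingleton (EtCoh.H (Spec (X.presheaf.stalk η)) (EtCoh.Gm (Spec (X.presheaf.stalk η))) q) := by
  have hsub := subsingleton_spec_stalk hη
  let R := X.presheaf.stalk η
  haveI : _root_.IsReduced R := inferInstance
  have hR : IsField R := by
    refine IsLocalRing.isField_iff_maximalIdeal_eq.2 (eq_bot_iff.2 fun a ha => ?_)
    haveI : Subsingleton (PrimeSpectrum R) := hsub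
    refine (Submodule.mem_bot R).2 (IsNilpotent.eq_zero (nilpotent_iff_mem_prime.2 fun J hJ => ?_))
    rwa [show J = IsLocalRing.maximalIdeal R from congrArg PrimeSpectrum.asIdeal
      (Subsingleton.elim (⟨J, hJ⟩ : PrimeSpectrum R) (IsLocalRing.closedPoint R))]
  letI := hR.toField
  have hbij : Function.Bijective (IsLocalRing.residue R) :=
    ⟨RingHom.injective _, IsLocalRing.residue_surjective⟩
  let e : (X.residueField η : Type u) →+* R := (RingEquiv.ofBijective _ hbij).symm.toRingHom
  letI : Algebra (X.residueField η : Type u) R := e.toAlgebra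
  haveI : FiniteDimensional (X.residueField η : Type u) R :=
    Module.Finite.of_surjective (Algebra.linearMap (X.residueField η : Type u) R) (RingEquiv.ofBijective _ hbij).symm.surjective
  have hC : Curves.IsCr (R : Type u) 1 := S0213.result _ _ (isCr_one_residueField f hdim η)
  exact subsingleton_H_Gm (R : Type u) (normSurj_of_brauer _ (brauer_trivial_of_isCr_one _ hC)) hq

end Groth.Agent.FieldBr3
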