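import Groth.Agent.Lib.FieldBr3.CurveCd

/-!
# Uniquely divisible sheaves on integral curves
-/

set_option autoImplicit false
set_option linter.style.haveILetI false
set_option backward.isDefEq.respectTransparency false
set_option backward.isDefEq.respectTransparency.types false
set_option maxHeartbeats 1000000

universe u

open CategoryTheory CategoryTheory.Limits AlgebraicGeometry Opposite CategoryTheory.Abelian
open Groth.Agent.EtStalk Groth.Agent.EtPic3

namespace Groth.Agent.FieldBr3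

/-- A torsion class with uniquely divisible coefficients vanishes. -/
theorem eq_zero_of_isOfFinAddOrder {X : Scheme.{u}} (F : EtCoh.Ab X) (hdiv : ∀ n : ℕ, 0 < n → IsIso (n • 𝟙 F))
    {q : ℕ} (x : EtCoh.H X F q) (hx : IsOfFinAddOrder x) : x = 0 := by
  obtain ⟨N, hN, h0⟩ := isOfFinAddOrder_iff_nsmul_eq_zero.1 hx
  haveI := hdiv N hN
  exact FieldH25.eq_zero_of_comp_iso x (asIso (N • 𝟙 F)) ((FieldH25.H_map_nsmul_id F N q x).trans h0)

theorem isIso_pull_nsmul {X Y : Scheme.{u}} (g : X ⟶ Y) (F : EtCoh.Ab Y)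
    (hdiv : ∀ n : ℕ, 0 < n → IsIso (n • 𝟙 F)) (n : ℕ) (hn : 0 < n) : IsIso (n • 𝟙 ((EtCoh.pull g).obj F)) := by
  haveI := hdiv n hn
  haveI : (EtCoh.pull g).Additive := (EtCoh.pullPushAdj g).left_adjoint_additive
  rw [← CategoryTheory.Functor.map_id, ← Functor.map_nsmul]
  infer_instance

variable {Y : Scheme.{u}} [IsNoetherian Y] [IsIntegral Y] (hdim : topologicalKrullDim Y ≤ 1)
  {P : Submonoid ℕ} (hP : PointsKilled P Y)

include hdim hP in
/-- Uniquely divisible sheaves on an integral curve have killed cohomology above degree one. -/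
theorem killed_H_uniquelyDivisible (F : EtCoh.Ab Y) (hdiv : ∀ n : ℕ, 0 < n → IsIso (n • 𝟙 F))
    (n : ℕ) (hn : 0 < n) (ξ : EtCoh.H Y F (n + 1)) : Killed P ξ := by
  let η := genericPoint Y
  have hη : IsMaxPt Y η := fun y hy => (hy.antisymm (genericPoint_specializes y)).eq
  have huniq : ∀ x : Y, IsMaxPt Y x → x = η := fun x hx => (hx η (genericPoint_specializes x)).symm
  haveI := subsingleton_spec_stalk hη
  let g := Y.fromSpecStalk η
  let φ := (EtCoh.pullPushAdj g).unit.app F
  let S := ShortComplex.mk (kernel.ι φ) (cokernel.π (kernel.ι φ)) (cokernel.condition _)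
  have hSe : S.ShortExact := { exact := ShortComplex.exact_cokernel (kernel.ι φ) }
  let m := Abelian.factorThruCoimage φ
  have hm : cokernel.π (kernel.ι φ) ≫ m = φ := Abelian.coimage.fac φ
  let T := ShortComplex.mk m (cokernel.π m) (cokernel.condition _)
  have hT : T.ShortExact := { exact := ShortComplex.exact_cokernel m }
  have hbij : ∀ (Ω : Type u) [Field Ω] [IsSepClosed Ω] (x : Spec (CommRingCat.of Ω) ⟶ Y),
      ¬ IsClosed ({x default} : Set Y) → Function.Bijective ((EtCoh.stalk x).map φ) :=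
    fun Ω _ _ x hx => bijective_stalk_unit η hη F x (huniq _ (isMaxPt_of_dim_le_one hdim hx))
  have hK : SuppClosed S.X₁ := fun Ω _ _ x hx => by
    haveI hmo : Mono ((EtCoh.stalk x).map (kernel.ι φ)) := inferInstance
    refine subsingleton_of_forall_eq 0 fun p => (AddCommGrpCat.mono_iff_injective _).1 hmo ?_
    refine (hbij Ω x hx).1 ?_
    rw [map_zero, map_zero, ← ConcreteCategory.comp_apply, ← Functor.map_comp, kernel.condition, Functor.map_zero]
    rfl
  have hC : SuppClosed T.X₃ := fun Ω _ _ x hx => by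
    haveI hep : Epi ((EtCoh.stalk x).map (cokernel.π m)) := inferInstance
    refine subsingleton_of_forall_eq 0 fun p => ?_
    obtain ⟨b, rfl⟩ := (AddCommGrpCat.epi_iff_surjective _).1 hep p
    obtain ⟨a, rfl⟩ := (hbij Ω x hx).2 b
    rw [← ConcreteCategory.comp_apply, ← Functor.map_comp,
      show φ ≫ cokernel.π m = 0 from (congrArg (· ≫ cokernel.π m) hm.symm).trans (by rw [Category.assoc, cokernel.condition, comp_zero]), Functor.map_zero]
    rfl
  have hdiv' := isIso_pull_nsmul g F hdiv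
  have hz : Killed P (ξ.comp (Ext.mk₀ φ) (add_zero (n + 1))) := by
    refine killed_ker_HofPush g (compactSpace_bc_stalk η) P n _ (fun q hq _ W hW z => ?_) _ ?_
    · haveI : Etale W.hom := W.prop
      haveI : CompactSpace ((𝟭 Scheme).obj W.left) := inferInstanceAs (CompactSpace W.left)
      rw [eq_zero_of_isOfFinAddOrder _ (isIso_pull_nsmul W.hom _ hdiv') z
        (isAddTorsion_H_local (Y.presheaf.stalk η) W.hom _ hq z)]
      exact killed_zero
    · exact eq_zero_of_isOfFinAddOrder _ hdiv' _ (isAddTorsion_H_local (Y.presheaf.stalk η) (𝟙 _) _ n.succ_pos _)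
  obtain ⟨N, hN, hN0⟩ := hz
  have h1 : (N • ξ.comp (Ext.mk₀ S.g) (add_zero (n + 1))).comp (Ext.mk₀ T.f) (add_zero (n + 1)) = 0 := by
    refine (map_nsmul ((Ext.mk₀ T.f).postcomp _ (add_zero (n + 1))) N _).trans ?_
    show N • (ξ.comp (Ext.mk₀ S.g) (add_zero (n + 1))).comp (Ext.mk₀ T.f) (add_zero (n + 1)) = 0
    rw [Ext.comp_assoc_of_third_deg_zero, Ext.mk₀_comp_mk₀, show S.g ≫ T.f = φ from hm]
    exact hN0
  obtain ⟨c, hc⟩ := Ext.covariant_sequence_exact₁ _ hT _ h1 (n₀ := n) rfl
  obtain ⟨M, hM, hM0⟩ := Killed.map (hT.extClass.postcomp _ rfl) (killed_H_suppClosed hP T.X₃ hC hn c)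
  refine killed_of_nsmul hN (killed_of_nsmul hM ?_)
  have h2 : (M • (N • ξ)).comp (Ext.mk₀ S.g) (add_zero (n + 1)) = 0 := by
    refine (map_nsmul ((Ext.mk₀ S.g).postcomp _ (add_zero (n + 1))) M _).trans ?_
    rw [show ((Ext.mk₀ S.g).postcomp _ (add_zero (n + 1))) (N • ξ) = c.comp hT.extClass rfl from
      (map_nsmul ((Ext.mk₀ S.g).postcomp _ (add_zero (n + 1))) N ξ).trans hc.symm]
    exact hM0
  obtain ⟨y, hy⟩ := Ext.covariant_sequence_exact₂ _ hSe _ h2
  rw [← hy]
  exact Killed.map ((Ext.mk₀ S.f).postcomp _ (add_zero (n + 1))) (killed_H_suppClosed hP S.X₁ hK (by omega) y)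

end Groth.Agent.FieldBr3
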