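import Groth.Agent.Lib.FieldBr3.FreeInj
import Groth.Agent.Lib.EtPic3.Connect
import Groth.Agent.Lib.FieldH25.SplitField
import Groth.Agent.Lib.EtStalk.ExtSheaf

/-!
# Second cohomology classes killed by a cyclic extension
-/

set_option autoImplicit false
set_option linter.style.haveILetI false
set_option backward.isDefEq.respectTransparency false
set_option backward.isDefEq.respectTransparency.types false
set_option maxHeartbeats 1000000

universe u

open CategoryTheory CategoryTheory.Limits AlgebraicGeometry Opposite CategoryTheory.Abelian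

namespace Groth.Agent.FieldBr3

open Groth.Agent.FieldH25 Groth.Agent.EtStalk Groth.Agent.EtPic3

variable (k : Type u) [Field k] (M : Type u) [Field M] [Algebra k M] [FiniteDimensional k M] [Algebra.IsSeparable k M]
  [Etale (specExt k M)]

/-- The étale scheme underlying the extension by zero. -/
noncomputable def topIso : (EtShriek.compEtale (specExt k M)).obj (EtCoh.top (Spec (CommRingCat.of M))) ≅ ext k M :=
  MorphismProperty.Over.isoMk (Iso.refl _) (by
    show 𝟙 _ ≫ Spec.map _ = 𝟙 _ ≫ Spec.map _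
    rfl)

/-- A morphism representing the sections over the extension. -/
theorem exists_restr : ∃ p : zExt (specExt k M) ⟶ EtCoh.const (Spec (CommRingCat.of k)) ℤ,
    ∀ (G : EtCoh.Ab (Spec (CommRingCat.of k))) (φ : EtCoh.const (Spec (CommRingCat.of k)) ℤ ⟶ G),
      secOf (specExt k M) G (p ≫ φ) =
        G.obj.map (topIso k M).hom.op (G.obj.map (FieldH25.toTop (ext k M)).op (evalOne φ)) := by
  obtain ⟨p, hp⟩ := secOf_surjective (specExt k M) (EtCoh.const (Spec (CommRingCat.of k)) ℤ)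
    ((EtCoh.const _ ℤ).obj.map (topIso k M).hom.op ((EtCoh.const _ ℤ).obj.map (FieldH25.toTop (ext k M)).op
      (evalOne (𝟙 (EtCoh.const (Spec (CommRingCat.of k)) ℤ)))))
  refine ⟨p, fun G φ => ?_⟩
  rw [secOf_comp, hp, NatTrans.naturality_apply, NatTrans.naturality_apply, ← evalOne_comp, Category.id_comp]

variable [IsGalois k M]

/-- A class of degree two killed by a cyclic extension vanishes when the norm is surjective on invariants. -/
theorem eq_zero_of_cyclic (σ : M ≃ₐ[k] M) (hσ : ∀ g : M ≃ₐ[k] M, g ∈ Subgroup.zpowers σ)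
    (F : EtCoh.Ab (Spec (CommRingCat.of k))) (hH1 : Subsingleton (Ext (zExt (specExt k M)) F 1))
    (hnorm : ∀ f : F.obj.obj (op (ext k M)), (∀ g, galAct F g f = f) → ∃ b, ∑ g : M ≃ₐ[k] M, galAct F g b = f)
    (p : zExt (specExt k M) ⟶ EtCoh.const (Spec (CommRingCat.of k)) ℤ)
    (hp : ∀ (G : EtCoh.Ab (Spec (CommRingCat.of k))) (φ : EtCoh.const (Spec (CommRingCat.of k)) ℤ ⟶ G),
      secOf (specExt k M) G (p ≫ φ) =
        G.obj.map (topIso k M).hom.op (G.obj.map (FieldH25.toTop (ext k M)).op (evalOne φ)))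
    (ξ : EtCoh.H (Spec (CommRingCat.of k)) F 2) (hξ : (Ext.mk₀ p).comp ξ (zero_add 2) = 0) : ξ = 0 := by
  let S : ShortComplex (EtCoh.Ab (Spec (CommRingCat.of k))) :=
    ShortComplex.mk (Injective.ι F) (cokernel.π (Injective.ι F)) (cokernel.condition _)
  have hS : S.ShortExact := { exact := ShortComplex.exact_cokernel _ }
  haveI : Injective S.X₂ := inferInstanceAs (Injective (Injective.under F))
  let T : ShortComplex (EtCoh.Ab (Spec (CommRingCat.of k))) :=
    ShortComplex.mk (Injective.ι S.X₃) (cokernel.π (Injective.ι S.X₃)) (cokernel.condition _)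
  have hT : T.ShortExact := { exact := ShortComplex.exact_cokernel _ }
  haveI : Injective T.X₂ := inferInstanceAs (Injective (Injective.under S.X₃))
  obtain ⟨η, rfl⟩ := Ext.covariant_sequence_exact₁ _ hS ξ (Ext.eq_zero_of_injective _) (n₀ := 1) rfl
  obtain ⟨y, rfl⟩ := Ext.covariant_sequence_exact₁ _ hT η (Ext.eq_zero_of_injective _) (n₀ := 0) rfl
  obtain ⟨φ, rfl⟩ := (Ext.mk₀_bijective _ _).2 y
  -- the class lifts to the extension
  have h1 : ((Ext.mk₀ (p ≫ φ)).comp hT.extClass (zero_add 1)).comp hS.extClass (rfl : 1 + 1 = 2) = 0 := by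
    rw [← Ext.mk₀_comp_mk₀, Ext.comp_assoc (Ext.mk₀ p) (Ext.mk₀ φ) _ (zero_add 0) (zero_add 1) (by lia),
      Ext.comp_assoc (Ext.mk₀ p) _ _ (zero_add 1) (rfl : 1 + 1 = 2) (by lia)]
    exact hξ
  obtain ⟨w, hw⟩ := Ext.covariant_sequence_exact₃ _ hS _ rfl h1
  rw [Ext.eq_zero_of_injective w, Ext.zero_comp] at hw
  obtain ⟨z, hz⟩ := Ext.covariant_sequence_exact₃ _ hT _ (zero_add 1) hw.symm
  obtain ⟨ψ, rfl⟩ := (Ext.mk₀_bijective _ _).2 z
  rw [Ext.mk₀_comp_mk₀] at hz
  let e := topIso k M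
  let t : T.X₂.obj.obj (op (ext k M)) := T.X₂.obj.map e.inv.op (secOf (specExt k M) T.X₂ ψ)
  let Y := T.X₃.obj.map (FieldH25.toTop (ext k M)).op (evalOne φ)
  have ht : T.g.hom.app _ t = Y := by
    rw [NatTrans.naturality_apply, ← secOf_comp, (Ext.mk₀_bijective _ _).1 hz, hp, ← Functor.map_comp_apply,
      ← op_comp, e.inv_hom_id, op_id, Functor.map_id_apply]
  -- sections
  let ev := sheafToPresheaf (Spec (CommRingCat.of k)).smallEtaleTopology AddCommGrpCat.{u + 1} ⋙
    (evaluation _ AddCommGrpCat.{u + 1}).obj (op (ext k M))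
  haveI : ev.Additive := { }
  have hexS := (ShortComplex.ab_exact_iff _).1
    (hS.exact.map_of_mono_of_preservesKernel ev hS.mono_f inferInstance)
  have hexT := (ShortComplex.ab_exact_iff _).1
    (hT.exact.map_of_mono_of_preservesKernel ev hT.mono_f inferInstance)
  have hinjS : Function.Injective (S.f.hom.app (op (ext k M))) := (mono_iff_app_injective _).1 hS.mono_f _
  have hinjT : Function.Injective (T.f.hom.app (op (ext k M))) := (mono_iff_app_injective _).1 hT.mono_f _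
  have hinv : ∀ γ, galAct T.X₃ γ Y = Y := fun γ => by
    show T.X₃.obj.map _ (T.X₃.obj.map _ _) = _
    rw [← Functor.map_comp_apply, ← op_comp, w_top (extMap k γ.toAlgHom ≫ FieldH25.toTop _) (FieldH25.toTop (ext k M))]
  obtain ⟨q, hq⟩ : ∃ q : S.X₃.obj.obj (op (ext k M)), T.f.hom.app _ q = galAct T.X₂ σ t - t :=
    hexT (galAct T.X₂ σ t - t) (by
    show T.g.hom.app _ (galAct T.X₂ σ t - t) = 0
    rw [map_sub, galAct_natural, ht, hinv, sub_self])
  obtain ⟨t₀, ht₀⟩ : ∃ t₀, S.g.hom.app (op (ext k M)) t₀ = q := by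
    obtain ⟨χ, hχ⟩ := secOf_surjective (specExt k M) S.X₃ (S.X₃.obj.map e.hom.op q)
    obtain ⟨z, hz⟩ := Ext.covariant_sequence_exact₃ _ hS (Ext.mk₀ χ) (zero_add 1) (hH1.elim _ _)
    obtain ⟨θ, rfl⟩ := (Ext.mk₀_bijective _ _).2 z
    rw [Ext.mk₀_comp_mk₀] at hz
    refine ⟨S.X₂.obj.map e.inv.op (secOf (specExt k M) S.X₂ θ), ?_⟩
    rw [NatTrans.naturality_apply, ← secOf_comp, (Ext.mk₀_bijective _ _).1 hz, hχ, ← Functor.map_comp_apply,
      ← op_comp, e.inv_hom_id, op_id, Functor.map_id_apply]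
  have hsum : ∀ {G : EtCoh.Ab (Spec (CommRingCat.of k))} (c : G.obj.obj (op (ext k M))) (g : M ≃ₐ[k] M),
      galAct G g (∑ h : M ≃ₐ[k] M, galAct G h c) = ∑ h : M ≃ₐ[k] M, galAct G h c := fun c g => by
    rw [map_sum]
    exact Fintype.sum_equiv (Equiv.mulLeft g) _ _ fun h => (galAct_mul _ g h c).symm
  obtain ⟨f₀, hf₀⟩ : ∃ f₀ : F.obj.obj (op (ext k M)),
      S.f.hom.app _ f₀ = ∑ g : M ≃ₐ[k] M, galAct S.X₂ g t₀ := hexS (∑ g : M ≃ₐ[k] M, galAct S.X₂ g t₀) (by
    show S.g.hom.app _ (∑ g : M ≃ₐ[k] M, galAct S.X₂ g t₀) = 0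
    rw [map_sum]
    simp only [galAct_natural, ht₀]
    refine hinjT ?_
    rw [map_sum, map_zero]
    have hn : ∀ x : M ≃ₐ[k] M, T.f.hom.app (op (ext k M)) (galAct S.X₃ x q) = galAct T.X₂ x (galAct T.X₂ σ t - t) :=
      fun x => (galAct_natural T.f x q).trans (congrArg (galAct T.X₂ x) hq)
    simp only [hn, map_sub, Finset.sum_sub_distrib]
    rw [sub_eq_zero]
    exact Fintype.sum_equiv (Equiv.mulRight σ) _ _ fun h => (galAct_mul _ h σ t).symm)
  obtain ⟨b, hb⟩ := hnorm f₀ fun g => hinjS (by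
    refine (galAct_natural S.f g f₀).trans ?_
    rw [show S.f.hom.app (op (ext k M)) f₀ = _ from hf₀]
    exact hsum _ _)
  obtain ⟨a, ha⟩ := exists_galAct_sub_eq S.X₂ σ hσ (t₀ - S.f.hom.app _ b) (by
    simp only [map_sub, Finset.sum_sub_distrib, ← galAct_natural, ← map_sum]
    exact sub_eq_zero.2 (hf₀.symm.trans (congrArg (S.f.hom.app (op (ext k M))) hb.symm)))
  -- descend
  let t1 := t - T.f.hom.app _ (S.g.hom.app _ a)
  have hfg : S.g.hom.app (op (ext k M)) (S.f.hom.app _ b) = 0 :=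
    congrArg (fun r : F ⟶ S.X₃ => r.hom.app (op (ext k M)) b) S.zero
  have hfix : galAct T.X₂ σ t1 = t1 := by
    have h2 : T.f.hom.app (op (ext k M)) q = galAct T.X₂ σ t - t := hq
    have h3 : galAct S.X₃ σ (S.g.hom.app _ a) - S.g.hom.app (op (ext k M)) a = q := by
      rw [← galAct_natural, ← map_sub, ha, map_sub, ht₀, hfg, sub_zero]
    rw [map_sub, ← galAct_natural, ← sub_eq_zero]
    rw [← h3, map_sub] at h2
    rw [sub_sub_sub_comm, h2, sub_self]
  obtain ⟨T₀, hT₀⟩ := exists_descend T.X₂ M t1 fun γ => by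
    obtain ⟨n, hn : σ ^ n = γ⟩ := Submonoid.mem_powers_iff γ σ |>.1
      (((isOfFinOrder_of_finite σ).mem_powers_iff_mem_zpowers).2 (hσ γ))
    subst hn
    induction n with
    | zero =>
      show T.X₂.obj.map _ t1 = t1
      rw [show extMap k (σ ^ 0).toAlgHom = 𝟙 _ from MorphismProperty.Over.Hom.ext (Spec.map_id _), op_id,
        Functor.map_id_apply]
    | succ n ih => rw [pow_succ, galAct_mul, hfix, ih]
  obtain ⟨ψ₀, hψ₀⟩ := evalOne_surjective T₀
  have hlift : ψ₀ ≫ T.g = φ := evalOne_injective <| map_toTop_injective T.X₃ M <| by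
    rw [evalOne_comp, hψ₀, ← NatTrans.naturality_apply, hT₀]
    show T.g.hom.app _ (t - _) = _
    rw [map_sub, ht]
    refine (congrArg (Y - ·) ?_).trans (sub_zero Y)
    exact congrArg (fun r : S.X₃ ⟶ T.X₃ => r.hom.app (op (ext k M)) (S.g.hom.app _ a)) T.zero
  rw [← hlift, ← Ext.mk₀_comp_mk₀, Ext.comp_assoc_of_second_deg_zero, hT.comp_extClass, Ext.comp_zero, Ext.zero_comp]

end Groth.Agent.FieldBr3
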