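import Groth.Agent.Lib.FieldBr3.CyclicStep
import Groth.Agent.Lib.EtPic3.PushPoint
import Groth.Agent.Lib.FieldH25.GaAS
import Mathlib.GroupTheory.IndexNormal

/-!
# Vanishing of `H²(K, G_m)` when norms are surjective
-/

set_option autoImplicit false
set_option linter.style.haveILetI false
set_option backward.isDefEq.respectTransparency false
set_option backward.isDefEq.respectTransparency.types false
set_option maxHeartbeats 1000000

universe u

open CategoryTheory CategoryTheory.Limits AlgebraicGeometry Opposite CategoryTheory.Abelian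

namespace Groth.Agent.FieldBr3

open Groth.Agent.FieldH25 Groth.Agent.EtStalk Groth.Agent.EtPic3

/-- Norms from Galois extensions of prime degree are surjective over all finite separable extensions. -/
def NormSurj (K : Type u) [Field K] : Prop :=
  ∀ (K' : Type u) [Field K'] [Algebra K K'] [FiniteDimensional K K'] [Algebra.IsSeparable K K']
    (L : Type u) [Field L] [Algebra K' L] [FiniteDimensional K' L] [IsGalois K' L],
    (Module.finrank K' L).Prime → ∀ x : K', x ≠ 0 → ∃ y : L, Algebra.norm K' y = x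

theorem NormSurj.trans {K : Type u} [Field K] (h : NormSurj K) (L : Type u) [Field L] [Algebra K L]
    [FiniteDimensional K L] [Algebra.IsSeparable K L] : NormSurj L := by
  intro K' _ _ _ _ M _ _ _ _ hp x hx
  letI : Algebra K K' := Algebra.compHom K' (algebraMap K L)
  haveI : IsScalarTower K L K' := IsScalarTower.of_algebraMap_eq fun _ => rfl
  haveI : FiniteDimensional K K' := Module.Finite.trans L K'
  haveI : Algebra.IsSeparable K K' := Algebra.IsSeparable.trans K L K'
  exact h K' M hp x hx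

section Gen

variable {U X : Scheme.{u}} (j : U ⟶ X) [Etale j]

/-- The counit of extension by zero on the unit section. -/
theorem secOf_zExtCounit (g : (EtShriek.compEtale j).obj (EtCoh.top U) ⟶ EtCoh.top X) :
    secOf j (EtCoh.const X ℤ) (zExtCounit j) = (EtCoh.const X ℤ).obj.map g.op (oneSec X) := by
  have hu := Adjunction.unit_leftAdjointUniq_hom_app (restrPushAdj j) (EtCoh.pullPushAdj j) (EtCoh.const X ℤ)
  have h0 : (EtShriek.extZeroAdj j).homEquiv _ _ (zExtCounit j) =
      (EtCore.pullConst j ℤ).inv ≫ (restrPullIso j).inv.app (EtCoh.const X ℤ) := by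
    rw [← cancel_mono ((restrPullIso j).hom.app (EtCoh.const X ℤ)), Category.assoc, Iso.inv_hom_id_app,
      Category.comp_id]
    have h := ((shriekPullAdj j).homEquiv (EtCoh.const U ℤ) (EtCoh.const X ℤ)).apply_symm_apply (EtCore.pullConst j ℤ).inv
    rw [shriekPullAdj, Adjunction.homEquiv_ofNatIsoRight_apply] at h
    exact h
  rw [secOf, h0]
  show ((restrPullIso j).inv.app (EtCoh.const X ℤ)).hom.app _
    ((EtCore.pullConst j ℤ).inv.hom.app (op (EtCoh.top U)) (oneSec U)) = _
  rw [pullConst_inv_one, NatTrans.naturality_apply]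
  have h2 := congrArg (fun r : EtCoh.const X ℤ ⟶ (EtCoh.push j).obj ((EtCoh.pull j).obj (EtCoh.const X ℤ)) =>
    r.hom.app (op (EtCoh.top X)) (oneSec X)) hu
  rw [show ((EtCoh.pullPushAdj j).unit.app (EtCoh.const X ℤ)).hom.app (op (EtCoh.top X)) (oneSec X) =
    ((restrPullIso j).hom.app (EtCoh.const X ℤ)).hom.app (op ((EtCoh.bc j).obj (EtCoh.top X)))
      (((restrPushAdj j).unit.app (EtCoh.const X ℤ)).hom.app (op (EtCoh.top X)) (oneSec X)) from h2.symm]
  have h3 := congrArg (fun r : (EtShriek.restrAlong j).obj (EtCoh.const X ℤ) ⟶ (EtShriek.restrAlong j).obj (EtCoh.const X ℤ) =>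
    r.hom.app (op ((EtCoh.bc j).obj (EtCoh.top X))) (((restrPushAdj j).unit.app (EtCoh.const X ℤ)).hom.app (op (EtCoh.top X)) (oneSec X)))
    ((restrPullIso j).hom_inv_id_app (EtCoh.const X ℤ))
  refine (congrArg _ h3).trans ?_
  show (EtCoh.const X ℤ).obj.map ((EtShriek.compEtale j).map (EtCore.bcTopIso j).inv).op
    ((EtCoh.const X ℤ).obj.map ((compBcAdj j).counit.app (EtCoh.top X)).op (oneSec X)) = _
  exact (ConcreteCategory.congr_hom ((EtCoh.const X ℤ).obj.map_comp _ _) _).symm.trans
    (map_terminal (G := EtCoh.const X ℤ) (EtCore.topIsTerminal X)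
      ((EtShriek.compEtale j).map (EtCore.bcTopIso j).inv ≫ (compBcAdj j).counit.app (EtCoh.top X)) g (oneSec X))

omit [Etale j] in
/-- Pulling back commutes with maps of sheaves. -/
theorem Hpull_comp_mk₀ {F G : EtCoh.Ab X} (a : F ⟶ G) (n : ℕ) (x : EtCoh.H X F n) :
    EtCore.Hpull j G n (x.comp (Ext.mk₀ a) (add_zero n)) =
      (EtCore.Hpull j F n x).comp (Ext.mk₀ ((EtCoh.pull j).map a)) (add_zero n) := by
  rw [Hpull_eq, Hpull_eq, Ext.mapExactFunctor_comp, Ext.mapExactFunctor_mk₀]
  simp only [Ext.comp_assoc_of_third_deg_zero]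

end Gen

theorem evalOne_id (X : Scheme.{u}) : evalOne (𝟙 (EtCoh.const X ℤ)) = oneSec X := by
  rw [evalOne, Adjunction.homEquiv_id]
  rfl

variable (K : Type u) [Field K]

/-- Restriction to a finite separable extension as a pullback. -/
theorem Hpull_eq_zero_of_unit (M : Type u) [Field M] [Algebra K M] [Etale (specExt K M)]
    (F : EtCoh.Ab (Spec (CommRingCat.of K))) (n : ℕ) (x : EtCoh.H (Spec (CommRingCat.of K)) F n)
    (h : x.comp (Ext.mk₀ ((restrPushAdj (specExt K M)).unit.app F)) (add_zero n) = 0) :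
    EtCore.Hpull (specExt K M) F n x = 0 := by
  rw [← FieldH25.HofPush_unit (specExt K M) F n x]
  have hu := Adjunction.unit_leftAdjointUniq_hom_app (restrPushAdj (specExt K M)) (EtCoh.pullPushAdj _) F
  erw [← hu]
  rw [← Ext.mk₀_comp_mk₀, ← Ext.comp_assoc_of_third_deg_zero, h, Ext.zero_comp, map_zero]

section Cyclic

variable (M : Type u) [Field M] [Algebra K M] [FiniteDimensional K M] [IsGalois K M]

/-- The cyclic step for `G_m`. -/
theorem eq_zero_Gm_of_prime (hp : (Module.finrank K M).Prime)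
    (hnorm : ∀ x : K, x ≠ 0 → ∃ y : M, Algebra.norm K y = x)
    (ξ : EtCoh.H (Spec (CommRingCat.of K)) (EtCoh.Gm _) 2)
    (hξ : EtCore.Hpull (specExt K M) (EtCoh.Gm _) 2 ξ = 0) : ξ = 0 := by
  haveI : Etale (specExt K M) := etale_spec K M
  haveI : Fact (Module.finrank K M).Prime := ⟨hp⟩
  have hcard : Nat.card (M ≃ₐ[K] M) = Module.finrank K M := IsGalois.card_aut_eq_finrank K M
  haveI : IsCyclic (M ≃ₐ[K] M) := isCyclic_of_prime_card hcard
  obtain ⟨σ, hσ⟩ := IsCyclic.exists_generator (α := M ≃ₐ[K] M)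
  have hH1 : Subsingleton (Ext (zExt (specExt K M)) (EtCoh.Gm (Spec (CommRingCat.of K))) 1) := by
    haveI : Subsingleton (EtCoh.H (Spec (CommRingCat.of M)) ((EtCoh.pull (specExt K M)).obj (EtCoh.Gm _)) 1) :=
      @Equiv.subsingleton _ _ ((EtCoh.HF _ 1).mapIso (pullGmIso (specExt K M))).addCommGroupIsoToAddEquiv.toEquiv
        (subsingleton_H_one_Gm (k := M))
    exact (extCohEquiv (specExt K M) _ 1).injective.subsingleton
  let u : Mˣ ≃* (Γ(Spec (CommRingCat.of M), ⊤) : Type u)ˣ :=
    Units.mapEquiv (Scheme.ΓSpecIso (CommRingCat.of M)).commRingCatIsoToRingEquiv.symm.toMulEquiv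
  let ψ : Additive Mˣ ≃+ (EtCoh.Gm (Spec (CommRingCat.of K))).obj.obj (op (ext K M)) :=
    (MulEquiv.toAdditive u).trans AddEquiv.ulift.symm
  have hψ : ∀ (σ : M ≃ₐ[K] M) (m : Mˣ), galAct _ σ (ψ (Additive.ofMul m)) = ψ (Additive.ofMul (σ • m)) := by
    intro σ m
    refine ULift.ext _ _ (congrArg Additive.ofMul (Units.ext ?_))
    exact (congr($(Scheme.ΓSpecIso_inv_naturality (CommRingCat.ofHom σ.toAlgHom.toRingHom)) (m : M))).symm
  refine eq_zero_of_cyclic K M σ hσ _ hH1 (fun f hf => ?_) (zExtCounit (specExt K M)) (fun G φ => ?_) ξ ?_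
  · obtain ⟨m, rfl⟩ : ∃ m : Mˣ, ψ (Additive.ofMul m) = f :=
      ⟨Additive.toMul (ψ.symm f), ψ.apply_symm_apply f⟩
    have hm : ∀ g : M ≃ₐ[K] M, g (m : M) = m := fun g =>
      congrArg (fun v : Mˣ => (v : M)) (Additive.ofMul.injective (ψ.injective ((hψ g m).symm.trans (hf g))))
    obtain ⟨x, hx⟩ := (IsGalois.mem_range_algebraMap_iff_fixed (m : M)).2 hm
    have hx0 : x ≠ 0 := fun h => m.ne_zero (by rw [← hx, h, map_zero])
    obtain ⟨y, hy⟩ := hnorm x hx0
    have hy0 : y ≠ 0 := fun h => hx0 (by rw [← hy, h, Algebra.norm_zero])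
    refine ⟨ψ (Additive.ofMul (Units.mk0 y hy0)), ?_⟩
    simp only [hψ]
    rw [← map_sum, ← ofMul_prod]
    refine congrArg (fun v => ψ (Additive.ofMul v)) (Units.ext ?_)
    rw [Units.coe_prod]
    exact (Algebra.norm_eq_prod_automorphisms K y).symm.trans ((congrArg (algebraMap K M) hy).trans hx)
  · rw [secOf_comp, secOf_zExtCounit (specExt K M) ((topIso K M).hom ≫ FieldH25.toTop (ext K M)),
      NatTrans.naturality_apply, ← evalOne_id, ← evalOne_comp, Category.id_comp, op_comp, Functor.map_comp_apply]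
  · refine (extCohEquiv (specExt K M) _ 2).injective ?_
    rw [extCohEquiv_counit, hξ, map_zero]

end Cyclic

/-- A class killed by a tower is killed on the top step, after identifying the coefficients. -/
theorem Hpull_step (L M : Type u) [Field L] [Field M] [Algebra K L] [Algebra K M] [Algebra L M] [IsScalarTower K L M]
    [Etale (specExt K L)] (ξ : EtCoh.H (Spec (CommRingCat.of K)) (EtCoh.Gm _) 2)
    (hξ : EtCore.Hpull (specExt K M) (EtCoh.Gm _) 2 ξ = 0) :
    EtCore.Hpull (specExt L M) (EtCoh.Gm _) 2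
      ((EtCore.Hpull (specExt K L) (EtCoh.Gm _) 2 ξ).comp (Ext.mk₀ (pullGmIso (specExt K L)).hom) (add_zero 2)) = 0 := by
  rw [Hpull_comp_mk₀, FieldH25.Hpull_Hpull_eq_zero_iff (𝟙 _) (specExt K M) (specExt L M) (specExt K L)
    (by rw [Category.id_comp, specExt_comp]) _ 2 ξ hξ, Ext.zero_comp]

theorem eq_zero_H2_Gm_aux : ∀ (n : ℕ) (K : Type u) [Field K], NormSurj K →
    ∀ (M : Type u) [Field M] [Algebra K M] [FiniteDimensional K M] [IsGalois K M], Module.finrank K M ≤ n →
    ∀ ξ : EtCoh.H (Spec (CommRingCat.of K)) (EtCoh.Gm _) 2,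
      EtCore.Hpull (specExt K M) (EtCoh.Gm _) 2 ξ = 0 → ξ = 0 := by
  intro n
  induction n with
  | zero =>
    intro K _ _ M _ _ _ _ h
    exact absurd h (Nat.not_le.2 Module.finrank_pos)
  | succ n ih =>
    intro K _ hK M _ _ _ _ hM ξ hξ
    -- a step down to an intermediate field
    have step : ∀ L : IntermediateField K M, Module.finrank L M < Module.finrank K M →
        EtCore.Hpull (specExt K L) (EtCoh.Gm _) 2 ξ = 0 := by
      intro L hL
      haveI : Etale (specExt K L) := etale_spec K L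
      haveI : IsGalois L M := IsGalois.tower_top_of_isGalois K L M
      exact FieldH25.eq_zero_of_comp_iso _ (pullGmIso (specExt K L))
        (ih L (hK.trans L) M (by omega) _ (Hpull_step K L M ξ hξ))
    by_cases hone : Module.finrank K M = 1
    · have h := finrank_nsmul_eq_zero K M _ 2 ξ hξ
      rwa [hone, one_smul] at h
    have hcard : Nat.card (M ≃ₐ[K] M) = Module.finrank K M := IsGalois.card_aut_eq_finrank K M
    refine AddMonoid.addOrderOf_eq_one_iff.1 (Nat.eq_one_iff_not_exists_prime_dvd.2 fun p hp hpo => ?_)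
    haveI := Fact.mk hp
    have hord : addOrderOf ξ ∣ Module.finrank K M :=
      addOrderOf_dvd_of_nsmul_eq_zero (finrank_nsmul_eq_zero K M _ 2 ξ hξ)
    let P : Sylow p (M ≃ₐ[K] M) := default
    let L := IntermediateField.fixedField P.toSubgroup
    obtain ⟨a, ha⟩ := P.isPGroup'.exists_card_eq
    have hfin : Module.finrank L M = p ^ a := (IntermediateField.finrank_fixedField_eq_card _).trans ha
    have hidx : Module.finrank K L = P.toSubgroup.index := by
      refine Nat.eq_of_mul_eq_mul_right (Nat.pow_pos hp.pos (n := a)) ?_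
      rw [← hfin, Module.finrank_mul_finrank, ← hcard, hfin, ← Subgroup.index_mul_card P.toSubgroup, ha]
    by_cases hlt : Module.finrank L M < Module.finrank K M
    · have h := finrank_nsmul_eq_zero K L _ 2 ξ (step L hlt)
      exact P.not_dvd_index (hidx ▸ hpo.trans (addOrderOf_dvd_of_nsmul_eq_zero h))
    -- the whole group is a p-group
    have hpow : Module.finrank K M = p ^ a := by
      have h1 := Module.finrank_mul_finrank K L M
      have h2 : Module.finrank L M ≤ Module.finrank K M := by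
        rw [← h1]; exact Nat.le_mul_of_pos_left _ Module.finrank_pos
      omega
    obtain ⟨b, rfl⟩ : ∃ b, a = b + 1 := Nat.exists_eq_succ_of_ne_zero fun h => hone (by rw [hpow, h, pow_zero])
    obtain ⟨H, hH⟩ := Sylow.exists_subgroup_card_pow_prime (G := M ≃ₐ[K] M) p (n := b)
      (by rw [hcard, hpow]; exact pow_dvd_pow p b.le_succ)
    have hHidx : H.index = p := by
      have h := Subgroup.index_mul_card H
      rw [hH, hcard, hpow, pow_succ'] at h
      exact Nat.eq_of_mul_eq_mul_right (Nat.pow_pos hp.pos) h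
    haveI : H.Normal := Subgroup.normal_of_index_eq_minFac_card (by
      rw [hHidx, hcard, hpow, Nat.pow_minFac b.succ_ne_zero, hp.minFac_eq])
    let E := IntermediateField.fixedField H
    haveI : IsGalois K E := inferInstance
    have hE : Module.finrank E M = p ^ b := (IntermediateField.finrank_fixedField_eq_card _).trans hH
    have hEK : Module.finrank K E = p := by
      refine Nat.eq_of_mul_eq_mul_right (Nat.pow_pos hp.pos (n := b)) ?_
      rw [← hE, Module.finrank_mul_finrank, hpow, hE, pow_succ']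
    have h0 := eq_zero_Gm_of_prime K E (hEK ▸ hp) (fun x hx => hK K E (hEK ▸ hp) x hx) ξ
      (step E (by rw [hE, hpow]; exact Nat.pow_lt_pow_right hp.one_lt b.lt_succ_self))
    rw [h0, addOrderOf_zero] at hpo
    exact hp.not_dvd_one hpo

/-- `H²(K, G_m) = 0` when norms are surjective. -/
theorem subsingleton_H2_Gm (hK : NormSurj K) :
    Subsingleton (EtCoh.H (Spec (CommRingCat.of K)) (EtCoh.Gm _) 2) := by
  refine subsingleton_of_forall_eq 0 fun ξ => ?_
  obtain ⟨M, _, _, _, _, _, hM⟩ := FieldH25.exists_efface 1 (EtCoh.Gm _) ξ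
  exact eq_zero_H2_Gm_aux _ K hK M le_rfl ξ (Hpull_eq_zero_of_unit K M _ 2 ξ hM)

end Groth.Agent.FieldBr3
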