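import Groth.Agent.Lib.FieldBr3.CurveCd
import Groth.Agent.Lib.FieldBr3.Devissage

/-!
# Cohomology of finite discrete schemes
-/

set_option autoImplicit false
set_option linter.style.haveILetI false
set_option backward.isDefEq.respectTransparency false
set_option backward.isDefEq.respectTransparency.types false
set_option maxHeartbeats 1000000

universe u

open CategoryTheory CategoryTheory.Limits AlgebraicGeometry Opposite CategoryTheory.Abelian
open Groth.Agent.EtStalk Groth.Agent.EtPic3

namespace Groth.Agent.FieldBr3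

section

variable (W : Scheme.{u}) [DiscreteTopology W]

instance isClosedImmersion_point (w : W) : IsClosedImmersion (W.fromSpecResidueField w) :=
  isClosed_singleton_iff_isClosedImmersion.1 (isClosed_discrete _)

/-- The points of a reduced discrete scheme are open subschemes. -/
theorem isOpenImmersion_point [IsReduced W] (w : W) : IsOpenImmersion (W.fromSpecResidueField w) := by
  let U : W.Opens := ⟨{w}, isOpen_discrete _⟩
  have hsub : Set.range (W.fromSpecResidueField w) ⊆ Set.range U.ι := by
    rw [Scheme.Opens.range_ι, Scheme.range_fromSpecResidueField]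
    exact subset_rfl
  haveI hUι : IsOpenImmersion U.ι := inferInstance
  let i := @IsOpenImmersion.lift _ _ _ U.ι (W.fromSpecResidueField w) hUι hsub
  have hi : i ≫ U.ι = W.fromSpecResidueField w := @IsOpenImmersion.lift_fac _ _ _ U.ι (W.fromSpecResidueField w) hUι hsub
  haveI : Subsingleton U.toScheme := ⟨fun a b => Subtype.ext
    ((Set.mem_singleton_iff.1 a.2).trans (Set.mem_singleton_iff.1 b.2).symm)⟩
  haveI : IsPreimmersion (i ≫ U.ι) := hi.symm ▸ inferInstance
  haveI : IsPreimmersion i := IsPreimmersion.of_comp i U.ι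
  haveI : IsIso i := isIso_of_preimmersion i
  rw [← hi]
  infer_instance

variable [CompactSpace W] (F : EtCoh.Ab W)

/-- Cohomology of a finite discrete scheme is detected at its points. -/
theorem subsingleton_H_of_points (q : ℕ)
    (h : ∀ w : W, Subsingleton (EtCoh.H (Spec (W.residueField w)) ((EtCoh.pull (W.fromSpecResidueField w)).obj F) q)) :
    Subsingleton (EtCoh.H W F q) := by
  classical
  haveI : Finite W := finite_of_compact_of_discrete
  letI := Fintype.ofFinite W
  let e := (Fintype.equivFin W).symm
  let Fs := fun i : Fin (Fintype.card W) =>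
    (EtCoh.push (W.fromSpecResidueField (e i))).obj ((EtCoh.pull (W.fromSpecResidueField (e i))).obj F)
  let φ : F ⟶ ⨁ Fs := biproduct.lift fun i => (EtCoh.pullPushAdj (W.fromSpecResidueField (e i))).unit.app F
  haveI : IsIso φ := by
    have key : ∀ (Ω : Type u) [Field Ω] [IsSepClosed Ω] (ξ : Spec (CommRingCat.of Ω) ⟶ W),
        Function.Bijective ((EtCoh.stalk ξ).map φ) := by
      intro Ω _ _ ξ
      haveI : PreservesBinaryBiproducts (EtCoh.stalk ξ) := preservesBinaryBiproducts_of_preservesBinaryProducts _
      haveI : (EtCoh.stalk ξ).Additive := Functor.additive_of_preservesBinaryBiproducts _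
      let i₀ := e.symm (ξ default)
      have hr : ∀ i, Set.range (W.fromSpecResidueField (e i)) = {e i} := fun i => Scheme.range_fromSpecResidueField _
      have hπ : ∀ i p, (EtCoh.stalk ξ).map (biproduct.π Fs i) ((EtCoh.stalk ξ).map φ p) =
          (EtCoh.stalk ξ).map ((EtCoh.pullPushAdj (W.fromSpecResidueField (e i))).unit.app F) p := fun i p => by
        rw [← ConcreteCategory.comp_apply, ← Functor.map_comp, biproduct.lift_π]
        rfl
      have hbij : Function.Bijective ((EtCoh.stalk ξ).map
          ((EtCoh.pullPushAdj (W.fromSpecResidueField (e i₀))).unit.app F)) := by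
        obtain ⟨ζ, hζ⟩ := exists_lift_point (W.fromSpecResidueField (e i₀)) ξ
          ((hr i₀).symm ▸ (e.apply_symm_apply _).symm)
        rw [← hζ, ← ConcreteCategory.isIso_iff_bijective,
          show (EtCoh.stalk (ζ ≫ W.fromSpecResidueField (e i₀))).map
              ((EtCoh.pullPushAdj (W.fromSpecResidueField (e i₀))).unit.app F) =
            stalkPull (W.fromSpecResidueField (e i₀)) ζ F ≫ inv (pushStalk (W.fromSpecResidueField (e i₀)) ζ _) by
              rw [IsIso.eq_comp_inv, unit_pushStalk]]
        infer_instance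
      have hext : ∀ d : (EtCoh.stalk ξ).obj (⨁ Fs), (∀ i, (EtCoh.stalk ξ).map (biproduct.π Fs i) d = 0) → d = 0 := by
        intro d hd
        have h := ConcreteCategory.congr_hom (congrArg (EtCoh.stalk ξ).map (biproduct.total : ∑ i, biproduct.π Fs i ≫ biproduct.ι Fs i = 𝟙 (⨁ Fs))) d
        rw [Functor.map_sum, CategoryTheory.Functor.map_id] at h
        refine h.symm.trans ?_
        show AddCommGrpCat.homAddEquiv (∑ i, (EtCoh.stalk ξ).map (biproduct.π Fs i ≫ biproduct.ι Fs i)) d = 0
        rw [map_sum, AddMonoidHom.finset_sum_apply]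
        refine Finset.sum_eq_zero fun i _ => ?_
        show (EtCoh.stalk ξ).map (biproduct.π Fs i ≫ biproduct.ι Fs i) d = 0
        rw [Functor.map_comp, ConcreteCategory.comp_apply, hd, map_zero]
      have hsub : ∀ i, i ≠ i₀ → Subsingleton ((EtCoh.stalk ξ).obj (Fs i)) := fun i hne =>
        AddCommGrpCat.subsingleton_of_isZero (stalk_push_isZero (W.fromSpecResidueField (e i)) _ ξ fun hm => hne (by
          rw [hr i, Set.mem_singleton_iff] at hm
          exact (e.symm_apply_apply i).symm.trans (congrArg e.symm hm.symm)))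
      constructor
      · intro p q hpq
        exact hbij.1 (by rw [← hπ i₀, ← hπ i₀, hpq])
      · intro b
        obtain ⟨p, hp⟩ := hbij.2 ((EtCoh.stalk ξ).map (biproduct.π Fs i₀) b)
        refine ⟨p, sub_eq_zero.1 (hext _ fun i => ?_)⟩
        by_cases hi : i = i₀
        · subst hi; rw [map_sub, hπ, hp, sub_self]
        · exact @Subsingleton.elim _ (hsub i hi) _ _
    haveI : Mono φ := (EtStalk.mono_iff_stalk φ).2 fun Ω _ _ ξ => (key Ω ξ).1
    haveI : Epi φ := (EtStalk.epi_iff_stalk φ).2 fun Ω _ _ ξ => (key Ω ξ).2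
    exact isIso_of_mono_of_epi φ
  refine subsingleton_of_forall_eq 0 fun x => FieldH25.eq_zero_of_comp_iso x (asIso φ) ?_
  show x.comp (Ext.mk₀ φ) (add_zero q) = 0
  have hsum : φ = ∑ i, (EtCoh.pullPushAdj (W.fromSpecResidueField (e i))).unit.app F ≫ biproduct.ι Fs i :=
    biproduct.lift_eq
  have hlin := map_sum (Ext.addEquiv₀ (X := F) (Y := ⨁ Fs)).symm
    (fun i => (EtCoh.pullPushAdj (W.fromSpecResidueField (e i))).unit.app F ≫ biproduct.ι Fs i) Finset.univ
  rw [hsum, show Ext.mk₀ (∑ i, (EtCoh.pullPushAdj (W.fromSpecResidueField (e i))).unit.app F ≫ biproduct.ι Fs i) =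
    ∑ i, Ext.mk₀ ((EtCoh.pullPushAdj (W.fromSpecResidueField (e i))).unit.app F ≫ biproduct.ι Fs i) from hlin,
    Ext.comp_sum]
  refine Finset.sum_eq_zero fun i _ => ?_
  rw [← Ext.mk₀_comp_mk₀, ← Ext.comp_assoc_of_third_deg_zero,
    show x.comp (Ext.mk₀ ((EtCoh.pullPushAdj (W.fromSpecResidueField (e i))).unit.app F)) (add_zero q) = 0 from
      (FieldH25.bijective_HofPush_integral (W.fromSpecResidueField (e i)) _ q).1
        (@Subsingleton.elim _ (h (e i)) _ _),
    Ext.zero_comp]

/-- `G_m` on a finite discrete reduced scheme. -/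
theorem subsingleton_H_Gm_of_points [IsReduced W] (q : ℕ)
    (h : ∀ w : W, Subsingleton (EtCoh.H (Spec (W.residueField w)) (EtCoh.Gm (Spec (W.residueField w))) q)) :
    Subsingleton (EtCoh.H W (EtCoh.Gm W) q) := by
  refine subsingleton_H_of_points W _ q fun w => ?_
  haveI := isOpenImmersion_point W w
  exact @Equiv.subsingleton _ _
    ((EtCoh.HF _ q).mapIso (pullGmIso (W.fromSpecResidueField w))).addCommGroupIsoToAddEquiv.toEquiv (h w)

end

section Curve

variable {k : Type u} [Field k] [IsAlgClosed k] {X : Scheme.{u}} (f : X ⟶ Spec (CommRingCat.of k))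
  [LocallyOfFiniteType f] (hdim : topologicalKrullDim X ≤ 1)

include f hdim in
/-- Étale schemes over a maximal point of a reduced curve have no higher cohomology of units. -/
theorem subsingleton_H_Gm_over_stalk [IsReduced X] {η : X} (hη : IsMaxPt X η)
    (W : (Spec (X.presheaf.stalk η)).Etale) [CompactSpace W.left] {q : ℕ} (hq : 1 ≤ q) :
    Subsingleton (EtCoh.H W.left (EtCoh.Gm W.left) q) := by
  haveI := subsingleton_spec_stalk hη
  haveI : Etale W.hom := W.prop
  haveI : DiscreteTopology W.left := discreteTopology_etale (X.presheaf.stalk η) W.hom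
  haveI : IsReduced (Spec (X.presheaf.stalk η)) := inferInstance
  haveI : IsReduced W.left := @isReduced_of_etale (Spec (X.presheaf.stalk η)) _ W.hom _ inferInstance
  refine subsingleton_H_Gm_of_points W.left q fun w => ?_
  let L : Type u := W.left.residueField w
  let g := X.fromSpecStalk η
  let ψ : W.left ⟶ X := W.hom ≫ g
  haveI : IsPreimmersion g := IsAffineOpen.fromSpecStalk_isPreimmersion _ _ _
  letI : Algebra (X.residueField (g (W.hom w))) ((Spec (X.presheaf.stalk η)).residueField (W.hom w)) :=
    (g.residueFieldMap (W.hom w)).hom.toAlgebra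
  letI : Algebra ((Spec (X.presheaf.stalk η)).residueField (W.hom w)) L := (W.hom.residueFieldMap w).hom.toAlgebra
  haveI : Module.Finite ((Spec (X.presheaf.stalk η)).residueField (W.hom w)) L :=
    RingHom.finite_algebraMap.1 (EtaleFibre12.finite_residueFieldMap W.hom w)
  haveI : Module.Finite (X.residueField (g (W.hom w))) ((Spec (X.presheaf.stalk η)).residueField (W.hom w)) :=
    Module.Finite.of_surjective (Algebra.linearMap _ _) fun z => by
      obtain ⟨b, rfl⟩ := Scheme.residue_surjective _ (W.hom w) z
      obtain ⟨c, rfl⟩ := g.stalkMap_surjective (W.hom w) b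
      exact ⟨X.residue _ c, congr($(Scheme.residue_residueFieldMap g (W.hom w)) c)⟩
  have hC : Curves.IsCr L 1 := S0213.result _ L (S0213.result _ ((Spec (X.presheaf.stalk η)).residueField (W.hom w))
    (isCr_one_residueField f hdim (g (W.hom w))))
  exact subsingleton_H_Gm L (normSurj_of_brauer _ (brauer_trivial_of_isCr_one _ hC)) hq

end Curve

end Groth.Agent.FieldBr3
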