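import Groth.Agent.Lib.FieldH25.H1
import Groth.Agent.Lib.EtStalk.Flasque
import Mathlib.Data.Finsupp.Basic
import Mathlib.CategoryTheory.Abelian.FunctorCategory

/-!
# Injective sheaves over a field: vanishing of `Ĥ⁻¹` for cyclic extensions
-/

set_option autoImplicit false
set_option linter.style.haveILetI false
set_option backward.isDefEq.respectTransparency false
set_option backward.isDefEq.respectTransparency.types false
set_option maxHeartbeats 1000000

universe u

open CategoryTheory CategoryTheory.Limits AlgebraicGeometry Opposite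

namespace Groth.Agent.FieldBr3

open Groth.Agent.FieldH25

variable {k : Type u} [Field k] {M : Type u} [Field M] [Algebra k M] [FiniteDimensional k M] [Algebra.IsSeparable k M]

/-- The free presheaf on the étale scheme of the extension. -/
noncomputable def freePsh (W : (Spec (CommRingCat.of k)).Etale) :
    (Spec (CommRingCat.of k)).Etaleᵒᵖ ⥤ AddCommGrpCat.{u + 1} where
  obj V := AddCommGrpCat.of (ULift.{u + 1} (V.unop ⟶ W) →₀ ℤ)
  map g := AddCommGrpCat.ofHom (Finsupp.mapDomain.addMonoidHom fun f => ULift.up (g.unop ≫ f.down))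
  map_id V := by
    refine AddCommGrpCat.hom_ext (Finsupp.addHom_ext fun f n => ?_)
    show Finsupp.mapDomain _ (Finsupp.single f n) = Finsupp.single f n
    rw [Finsupp.mapDomain_single]
    simp
  map_comp g h := by
    refine AddCommGrpCat.hom_ext (Finsupp.addHom_ext fun f n => ?_)
    show Finsupp.mapDomain _ (Finsupp.single f n) = Finsupp.mapDomain _ (Finsupp.mapDomain _ (Finsupp.single f n))
    rw [Finsupp.mapDomain_single, Finsupp.mapDomain_single, Finsupp.mapDomain_single]
    simp

/-- Composition with an endomorphism. -/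
noncomputable def freeMap {W : (Spec (CommRingCat.of k)).Etale} (τ : W ⟶ W) : freePsh W ⟶ freePsh W where
  app V := AddCommGrpCat.ofHom (Finsupp.mapDomain.addMonoidHom fun f => ULift.up (f.down ≫ τ))
  naturality V V' g := by
    refine AddCommGrpCat.hom_ext (Finsupp.addHom_ext fun f n => ?_)
    show Finsupp.mapDomain _ (Finsupp.mapDomain _ (Finsupp.single f n)) =
      Finsupp.mapDomain _ (Finsupp.mapDomain _ (Finsupp.single f n))
    rw [Finsupp.mapDomain_single, Finsupp.mapDomain_single, Finsupp.mapDomain_single, Finsupp.mapDomain_single]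
    simp

/-- The morphism given by a section. -/
noncomputable def freeDesc {W : (Spec (CommRingCat.of k)).Etale} (I : EtCoh.Ab (Spec (CommRingCat.of k)))
    (t : I.obj.obj (op W)) : freePsh W ⟶ I.obj where
  app V := AddCommGrpCat.ofHom (Finsupp.liftAddHom fun f => zmultiplesHom (I.obj.obj V) (I.obj.map f.down.op t))
  naturality V V' g := by
    refine AddCommGrpCat.hom_ext (Finsupp.addHom_ext fun f n => ?_)
    show Finsupp.liftAddHom _ (Finsupp.mapDomain _ (Finsupp.single f n)) =
      I.obj.map g (Finsupp.liftAddHom _ (Finsupp.single f n))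
    rw [Finsupp.mapDomain_single, Finsupp.liftAddHom_apply_single, Finsupp.liftAddHom_apply_single]
    simp

theorem freeDesc_single {W : (Spec (CommRingCat.of k)).Etale} (I : EtCoh.Ab (Spec (CommRingCat.of k)))
    (t : I.obj.obj (op W)) (V : (Spec (CommRingCat.of k)).Etale) (f : ULift.{u + 1} (V ⟶ W)) (n : ℤ) :
    (freeDesc I t).app (op V) (Finsupp.single f n) = n • I.obj.map f.down.op t :=
  Finsupp.liftAddHom_apply_single _ f n

/-- Automorphisms of the extension act freely on nonempty schemes. -/
theorem eq_one_of_comp_extMap_eq {V : (Spec (CommRingCat.of k)).Etale} [Nonempty V.left] (f : V ⟶ ext k M)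
    (g : M ≃ₐ[k] M) (h : f ≫ extMap k g.toAlgHom = f) : g = 1 := by
  let φ : M →+* Γ(V.left, ⊤) :=
    ((Scheme.ΓSpecIso (CommRingCat.of M)).inv ≫ Scheme.Hom.appTop (show V.left ⟶ Spec (CommRingCat.of M) from f.left)).hom
  haveI : Nontrivial Γ(V.left, ⊤) := by
    obtain ⟨v⟩ := ‹Nonempty V.left›
    exact (V.left.presheaf.germ ⊤ v trivial).hom.domain_nontrivial
  refine AlgEquiv.ext fun m => φ.injective ?_
  show φ (g m) = φ m
  have h1 : (show V.left ⟶ Spec (CommRingCat.of M) from f.left) ≫ Spec.map (CommRingCat.ofHom g.toAlgHom.toRingHom) =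
      (show V.left ⟶ Spec (CommRingCat.of M) from f.left) := congrArg (fun r : V ⟶ ext k M => r.left) h
  conv_rhs => rw [show φ = ((Scheme.ΓSpecIso (CommRingCat.of M)).inv ≫
    Scheme.Hom.appTop ((show V.left ⟶ Spec (CommRingCat.of M) from f.left) ≫
      Spec.map (CommRingCat.ofHom g.toAlgHom.toRingHom))).hom by rw [h1]]
  rw [Scheme.Hom.comp_appTop, ← Scheme.ΓSpecIso_inv_naturality_assoc]
  rfl

variable [IsGalois k M] (I : EtCoh.Ab (Spec (CommRingCat.of k)))

open scoped Classical in
/-- An invariant combination is sent to zero by a section of norm zero. -/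
theorem freeDesc_invariant (t : I.obj.obj (op (ext k M))) (ht : ∑ g : M ≃ₐ[k] M, galAct I g t = 0)
    (V : (Spec (CommRingCat.of k)).Etale) (x : ULift.{u + 1} (V ⟶ ext k M) →₀ ℤ)
    (hx : ∀ (g : M ≃ₐ[k] M) f, x (ULift.up (f.down ≫ extMap k g.toAlgHom)) = x f) :
    (freeDesc I t).app (op V) x = 0 := by
  by_cases hV : Nonempty V.left
  swap
  · exact (AddCommGrpCat.subsingleton_of_isZero
      (EtStalk.isZero_of_isEmpty I V (not_nonempty_iff.1 hV))).elim _ _
  induction hn : x.support.card using Nat.strong_induction_on generalizing x with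
  | _ n ih =>
    rcases x.support.eq_empty_or_nonempty with h | ⟨f₀, hf₀⟩
    · rw [Finsupp.support_eq_empty.1 h]; exact map_zero _
    let o : (M ≃ₐ[k] M) → ULift.{u + 1} (V ⟶ ext k M) := fun g => ULift.up (f₀.down ≫ extMap k g.toAlgHom)
    have hcomp : ∀ (f : V ⟶ ext k M) (g h : M ≃ₐ[k] M),
        (f ≫ extMap k g.toAlgHom) ≫ extMap k h.toAlgHom = f ≫ extMap k (g * h).toAlgHom := fun f g h => by
      rw [Category.assoc, extMap_comp]
      rfl
    have hone : ∀ f : V ⟶ ext k M, f ≫ extMap k (1 : M ≃ₐ[k] M).toAlgHom = f := fun f => by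
      rw [show extMap k (1 : M ≃ₐ[k] M).toAlgHom = 𝟙 _ from MorphismProperty.Over.Hom.ext (Spec.map_id _),
        Category.comp_id]
    have ho : Function.Injective o := fun g h e => by
      have e' : f₀.down ≫ extMap k g.toAlgHom = f₀.down ≫ extMap k h.toAlgHom := congrArg ULift.down e
      have h2 : (f₀.down ≫ extMap k (g * h⁻¹).toAlgHom) = f₀.down := by
        rw [← hcomp, e', hcomp, mul_inv_cancel, hone]
      exact mul_inv_eq_one.1 (eq_one_of_comp_extMap_eq f₀.down _ h2)
    let y : ULift.{u + 1} (V ⟶ ext k M) →₀ ℤ := ∑ g : M ≃ₐ[k] M, Finsupp.single (o g) (x f₀)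
    have hy : ∀ f, y f = if ∃ g, o g = f then x f₀ else 0 := fun f => by
      simp only [y, Finsupp.finset_sum_apply, Finsupp.single_apply]
      split_ifs with h
      · obtain ⟨g, rfl⟩ := h
        simp [ho.eq_iff]
      · exact Finset.sum_eq_zero fun g _ => if_neg fun e => h ⟨g, e⟩
    have hyinv : ∀ (g : M ≃ₐ[k] M) f, (∃ h, o h = ULift.up (f.down ≫ extMap k g.toAlgHom)) ↔ ∃ h, o h = f := by
      intro g f
      constructor
      · rintro ⟨h, e⟩
        refine ⟨h * g⁻¹, ULift.ext _ _ ?_⟩
        show f₀.down ≫ extMap k (h * g⁻¹).toAlgHom = f.down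
        rw [← hcomp, show f₀.down ≫ extMap k h.toAlgHom = f.down ≫ extMap k g.toAlgHom from congrArg ULift.down e,
          hcomp, mul_inv_cancel, hone]
      · rintro ⟨h, rfl⟩
        exact ⟨h * g, ULift.ext _ _ (hcomp f₀.down h g).symm⟩
    have hxo : ∀ g, x (o g) = x f₀ := fun g => hx g f₀
    have hz : (freeDesc I t).app (op V) y = 0 := by
      rw [map_sum]
      have : ∀ g : M ≃ₐ[k] M, (freeDesc I t).app (op V) (Finsupp.single (o g) (x f₀)) =
          x f₀ • I.obj.map f₀.down.op (galAct I g t) := fun g => by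
        rw [freeDesc_single]
        show _ • I.obj.map (f₀.down ≫ extMap k g.toAlgHom).op t = _
        rw [op_comp, Functor.map_comp_apply]
        rfl
      simp only [this]
      rw [← Finset.smul_sum, ← map_sum, ht, map_zero, smul_zero]
    have hlt : (x - y).support.card < n := by
      rw [← hn]
      refine Finset.card_lt_card (Finset.ssubset_iff_subset_ne.2 ⟨fun f hf => ?_, fun e => ?_⟩)
      · rw [Finsupp.mem_support_iff, Finsupp.sub_apply, hy] at hf
        rw [Finsupp.mem_support_iff]
        intro h0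
        split_ifs at hf with h
        · obtain ⟨g, rfl⟩ := h
          rw [hxo] at h0 hf
          exact hf (sub_self _)
        · rw [h0, sub_zero] at hf; exact hf rfl
      · have h1 : f₀ ∈ (x - y).support := e ▸ hf₀
        rw [Finsupp.mem_support_iff, Finsupp.sub_apply, hy, if_pos ⟨1, ULift.ext _ _ (hone f₀.down)⟩, sub_self] at h1
        exact h1 rfl
    have := ih _ hlt (x - y) (fun g f => by
      rw [Finsupp.sub_apply, Finsupp.sub_apply, hx, hy, hy]
      simp only [hyinv g f]) rfl
    rwa [map_sub, hz, sub_zero] at this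

/-- For an injective sheaf, norm zero elements over a cyclic extension are coboundaries. -/
theorem exists_galAct_sub_eq [Injective I] (σ : M ≃ₐ[k] M) (hσ : ∀ g : M ≃ₐ[k] M, g ∈ Subgroup.zpowers σ)
    (t : I.obj.obj (op (ext k M))) (ht : ∑ g : M ≃ₐ[k] M, galAct I g t = 0) :
    ∃ a, galAct I σ a - a = t := by
  let D : freePsh (ext k M) ⟶ freePsh (ext k M) := freeMap (extMap k σ.toAlgHom) - 𝟙 _
  haveI : Injective I.obj := Injective.injective_of_adjoint (sheafificationAdjunction _ _) I
  let φ := freeDesc I t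
  have hker : kernel.ι D ≫ φ = 0 := by
    ext V a
    obtain ⟨V⟩ := V
    let ev := (evaluation (Spec (CommRingCat.of k)).Etaleᵒᵖ AddCommGrpCat.{u + 1}).obj (op V)
    let x : ULift.{u + 1} (V ⟶ ext k M) →₀ ℤ := (kernel.ι D).app (op V) a
    have hx : Finsupp.mapDomain (fun f : ULift.{u + 1} (V ⟶ ext k M) => ULift.up (f.down ≫ extMap k σ.toAlgHom)) x = x := by
      have := ConcreteCategory.congr_hom (congrArg (fun r => r.app (op V)) (kernel.condition D)) a
      exact sub_eq_zero.1 this
    show φ.app (op V) x = 0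
    refine freeDesc_invariant I t ht V x fun g => ?_
    have hcomp : ∀ (f : V ⟶ ext k M) (g h : M ≃ₐ[k] M),
        (f ≫ extMap k g.toAlgHom) ≫ extMap k h.toAlgHom = f ≫ extMap k (g * h).toAlgHom := fun f g h => by
      rw [Category.assoc, extMap_comp]
      rfl
    have hone : ∀ f : V ⟶ ext k M, f ≫ extMap k (1 : M ≃ₐ[k] M).toAlgHom = f := fun f => by
      rw [show extMap k (1 : M ≃ₐ[k] M).toAlgHom = 𝟙 _ from MorphismProperty.Over.Hom.ext (Spec.map_id _),
        Category.comp_id]
    have hinj : Function.Injective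
        (fun f : ULift.{u + 1} (V ⟶ ext k M) => ULift.up (f.down ≫ extMap k σ.toAlgHom)) := fun f f' e => by
      refine ULift.ext _ _ ?_
      have := congrArg (fun r : ULift.{u + 1} (V ⟶ ext k M) => r.down ≫ extMap k (σ⁻¹).toAlgHom) e
      simpa only [hcomp, mul_inv_cancel, hone] using this
    have hpow : ∀ n : ℕ, ∀ f, x (ULift.up (f.down ≫ extMap k (σ ^ n).toAlgHom)) = x f := fun n => by
      induction n with
      | zero => exact fun f => by rw [pow_zero, hone]
      | succ n ih =>
        intro f
        rw [pow_succ, ← hcomp]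
        refine Eq.trans ?_ (ih f)
        conv_lhs => rw [← hx]
        exact Finsupp.mapDomain_apply hinj x (ULift.up (f.down ≫ extMap k (σ ^ n).toAlgHom))
    obtain ⟨n, hn : σ ^ n = g⟩ := Submonoid.mem_powers_iff g σ |>.1
      (((isOfFinOrder_of_finite σ).mem_powers_iff_mem_zpowers).2 (hσ g))
    intro f
    rw [← hn]
    exact hpow n f
  haveI : Mono (Abelian.factorThruCoimage D) := inferInstance
  let g₀ : Abelian.coimage D ⟶ I.obj := cokernel.desc _ φ hker
  let A := Injective.factorThru g₀ (Abelian.factorThruCoimage D)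
  have hA : D ≫ A = φ := by
    rw [← Abelian.coimage.fac D, Category.assoc, Injective.comp_factorThru]
    exact cokernel.π_desc _ _ _
  refine ⟨A.app _ (Finsupp.single (ULift.up (𝟙 (ext k M))) 1), ?_⟩
  have h := ConcreteCategory.congr_hom (congrArg (fun r : freePsh (ext k M) ⟶ I.obj => r.app (op (ext k M))) hA)
    (Finsupp.single (ULift.up (𝟙 (ext k M))) 1)
  have hr : φ.app (op (ext k M)) (Finsupp.single (ULift.up (𝟙 (ext k M))) 1) = t := by
    rw [freeDesc_single, one_zsmul, op_id, Functor.map_id_apply]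
  rw [← hr, ← h]
  show _ = A.app _ (Finsupp.mapDomain _ (Finsupp.single _ 1) - Finsupp.single _ 1)
  rw [map_sub, Finsupp.mapDomain_single]
  refine congrArg (· - _) ?_
  have hnat := ConcreteCategory.congr_hom (A.naturality (extMap k σ.toAlgHom).op)
    (Finsupp.single (ULift.up (𝟙 (ext k M))) 1)
  rw [ConcreteCategory.comp_apply, ConcreteCategory.comp_apply] at hnat
  refine hnat.symm.trans (congrArg (A.app (op (ext k M))) ?_)
  show Finsupp.mapDomain _ (Finsupp.single _ 1) = _
  rw [Finsupp.mapDomain_single]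
  simp

end Groth.Agent.FieldBr3
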