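import Groth.Agent.Lib.FieldBr3.DiscreteGm

/-!
# Units of the function field pushed to a curve
-/

set_option autoImplicit false
set_option linter.style.haveILetI false
set_option backward.isDefEq.respectTransparency false
set_option backward.isDefEq.respectTransparency.types false
set_option maxHeartbeats 1000000

universe u

open CategoryTheory CategoryTheory.Limits AlgebraicGeometry Opposite CategoryTheory.Abelian
open Groth.Agent.EtStalk Groth.Agent.EtPic3

namespace Groth.Agent.FieldBr3

/-- The higher direct images vanish when the cohomology of the fibres of affine étale schemes vanishes. -/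
theorem isZero_Rpush_of_fibres {X Y : Scheme.{u}} (f : X ⟶ Y) (F : EtCoh.Ab X) (n : ℕ)
    (h : ∀ V : Y.Etale, IsAffine V.left →
      Subsingleton (EtCoh.H ((EtCoh.bc f).obj V).left ((EtCoh.pull ((EtCoh.bc f).obj V).hom).obj F) n)) :
    IsZero ((EtCoh.Rpush f n).obj F) := by
  let L := presheafToSheaf Y.smallEtaleTopology AddCommGrpCat.{u + 1}
  haveI : L.Additive := presheafToSheaf_additive
  haveI : (EtColim.pushPsh f).Additive := { }
  let e : EtColim.pushPsh f ⋙ L ≅ EtCoh.push f :=
    Functor.isoWhiskerLeft (EtCoh.push f)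
      (asIso (sheafificationAdjunction Y.smallEtaleTopology AddCommGrpCat.{u + 1}).counit) ≪≫ (EtCoh.push f).rightUnitor
  let P := ((EtColim.pushPsh f).rightDerived n).obj F
  have hP : ∀ V : Y.Etale, IsAffine V.left → Subsingleton ((P.obj (op V)) : Type (u + 1)) := fun V hV => by
    let W := (EtCoh.bc f).obj V
    haveI : AlgebraicGeometry.Etale W.hom := W.prop
    haveI : ((evaluation Y.Etaleᵒᵖ AddCommGrpCat.{u + 1}).obj (op V)).Additive := { }
    let e₂ := (RDComp.rightDerivedPostIso (EtColim.pushPsh f) ((evaluation Y.Etaleᵒᵖ AddCommGrpCat.{u + 1}).obj (op V)) n).symm ≪≫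
      (ExtDerived.rightDerivedMapIso n (EtColim.zExtSectIso W)).symm ≪≫
        ExtDerived.rightDerivedCoyonedaNatIso (EtStalk.zExt W.hom) n
    let e' := (e₂.app F).addCommGroupIsoToAddEquiv.trans (EtStalk.extCohEquiv W.hom F n)
    exact @Function.Injective.subsingleton _ _ _ e'.injective (h V hV)
  refine IsZero.of_iso (?_ : IsZero (L.obj P))
    (((RDComp.rightDerivedPostIso (EtColim.pushPsh f) L n).symm ≪≫ ExtDerived.rightDerivedMapIso n e).app F).symm
  refine (EtStalk.isZero_iff_stalk _).2 fun Ω _ _ ξ =>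
    @AddCommGrpCat.isZero_of_subsingleton _ (subsingleton_of_forall_eq 0 fun p => ?_)
  obtain ⟨U, φ, s, rfl⟩ := germ_surjective _ _ p
  rw [← map_zero (germ ξ (L.obj P) φ).hom]
  refine (mem_agree_iff_germ _ φ s 0).1 ?_
  have hcov := Presheaf.imageSieve_mem Y.smallEtaleTopology (toSheafify Y.smallEtaleTopology P) (U := op U) s
  rw [EtSite.mem_et_iff] at hcov
  obtain ⟨V, g, v, ⟨q, hq⟩, hv⟩ := hcov (fibPt φ)
  obtain ⟨A, hA, hvA, -⟩ := exists_isAffineOpen_mem_and_subset (X := V.left) (x := v) (U := ⊤) trivial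
  haveI : IsAffine (EtSite.sub V A).left := hA
  refine ⟨EtSite.sub V A, EtSite.subHom V A ≫ g, ⟨⟨v, hvA⟩, hv⟩, ?_⟩
  rw [op_comp, Functor.map_comp_apply, map_zero]
  have h1 : (L.obj P).obj.map (EtSite.subHom V A).op ((L.obj P).obj.map g.op s) =
      (toSheafify Y.smallEtaleTopology P).app (op (EtSite.sub V A)) (P.map (EtSite.subHom V A).op q) := by
    rw [NatTrans.naturality_apply]
    exact congrArg _ hq.symm
  rw [h1, show P.map (EtSite.subHom V A).op q = 0 from @Subsingleton.elim _ (hP (EtSite.sub V A) hA) _ _, map_zero]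

variable {k : Type u} [Field k] [IsAlgClosed k] {X : Scheme.{u}} (f : X ⟶ Spec (CommRingCat.of k))
  [LocallyOfFiniteType f] (hdim : topologicalKrullDim X ≤ 1)

include f hdim in
theorem subsingleton_H_pull_Gm_over_stalk [IsReduced X] {η : X} (hη : IsMaxPt X η)
    (W : (Spec (X.presheaf.stalk η)).Etale) [CompactSpace W.left] {q : ℕ} (hq : 1 ≤ q) :
    Subsingleton (EtCoh.H W.left ((EtCoh.pull W.hom).obj (EtCoh.Gm _)) q) := by
  haveI : Etale W.hom := W.prop
  exact @Equiv.subsingleton _ _ ((EtCoh.HF W.left q).mapIso (pullGmIso W.hom)).addCommGroupIsoToAddEquiv.toEquiv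
    (subsingleton_H_Gm_over_stalk f hdim hη W hq)

include f hdim in
/-- Units at a maximal point have vanishing higher direct images. -/
theorem isZero_Rpush_Gm [IsReduced X] [QuasiSeparatedSpace X] {η : X} (hη : IsMaxPt X η) {q : ℕ} (hq : 1 ≤ q) :
    IsZero ((EtCoh.Rpush (X.fromSpecStalk η) q).obj (EtCoh.Gm _)) :=
  isZero_Rpush_of_fibres _ _ _ fun V hV =>
    haveI := compactSpace_bc_stalk η V hV
    subsingleton_H_pull_Gm_over_stalk f hdim hη _ hq

include f hdim in
/-- Units at a maximal point pushed to the curve have no higher cohomology. -/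
theorem subsingleton_H_push_Gm [QuasiCompact f] [IsReduced X] {η : X} (hη : IsMaxPt X η) {p : ℕ} (hp : 1 ≤ p) :
    Subsingleton (EtCoh.H X ((EtCoh.push (X.fromSpecStalk η)).obj (EtCoh.Gm _)) p) := by
  haveI : IsLocallyNoetherian X := LocallyOfFiniteType.isLocallyNoetherian f
  haveI : CompactSpace X := QuasiCompact.compactSpace_of_compactSpace f
  obtain ⟨n, rfl⟩ := Nat.exists_eq_add_one.2 (show 0 < p by omega)
  refine subsingleton_of_forall_eq 0 fun x => ?_
  haveI := subsingleton_H_Gm_stalk f hdim hη (q := n + 1) (by omega)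
  obtain ⟨N, hN, h⟩ := killed_ker_HofPush (X.fromSpecStalk η) (compactSpace_bc_stalk η) ⊥ n _
    (fun q hq _ W hW z => ⟨1, one_mem _, @Subsingleton.elim _ (subsingleton_H_pull_Gm_over_stalk f hdim hη W hq) _ _⟩)
    x (Subsingleton.elim _ _)
  rwa [Submonoid.mem_bot.1 hN, one_nsmul] at h

include f hdim in
/-- Units on a reduced curve have no cohomology above degree one. -/
theorem subsingleton_H_Gm_curve [QuasiCompact f] [IsReduced X] {q : ℕ} (hq : 2 ≤ q) :
    Subsingleton (EtCoh.H X (EtCoh.Gm X) q) := by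
  haveI : IsLocallyNoetherian X := LocallyOfFiniteType.isLocallyNoetherian f
  haveI : CompactSpace X := QuasiCompact.compactSpace_of_compactSpace f
  haveI : IsNoetherian X := ⟨⟩
  obtain ⟨n, rfl⟩ := Nat.exists_eq_add_one.2 (show 0 < q by omega)
  refine subsingleton_of_forall_eq 0 fun ξ => ?_
  obtain ⟨N, hN, h⟩ := killed_of_maxPts (P := ⊥) hdim
    (pointsKilled_of_sepClosed ⊥ fun x hx => isSepClosed_residueField f hx) n (by omega)
    (fun η hη q hq _ W hW z => ⟨1, one_mem _, @Subsingleton.elim _ (subsingleton_H_pull_Gm_over_stalk f hdim hη W hq) _ _⟩)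
    ξ (fun η hη => ⟨1, one_mem _, (one_nsmul _).trans
      (@Subsingleton.elim _ (subsingleton_H_Gm_stalk f hdim hη (q := n + 1) (by omega)) _ _)⟩)
  rwa [Submonoid.mem_bot.1 hN, one_nsmul] at h

/-- Generic points are maximal. -/
theorem isMaxPt_genericPoint {Y : Scheme.{u}} [IrreducibleSpace Y] : IsMaxPt Y (genericPoint Y) := fun y hy =>
  (hy.antisymm (genericPoint_specializes y)).eq

end Groth.Agent.FieldBr3
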